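import Cfsg.Prelude.Def_OddOrderLocal
import Cfsg.Prelude.Def_OddOrderChar

/-!
# What the proof of Peterfalvi (12.7) uses about maximal subgroups

A maximal subgroup `M` with `κ(M) = ∅` is described by `OneData`.
-/

set_option autoImplicit false

namespace Cfsg.Agent.PF12

open Cfsg

universe u

/-- The non-identity elements of `M` centralising a non-identity element of `M_F`. -/
def suppA {G : Type u} [Group G] (M : Subgroup G) : Set G :=
  {a | a ∈ M ∧ a ≠ 1 ∧ ∃ x ∈ fittingHallOf M, x ≠ 1 ∧ a * x = x * a}

theorem suppA_eq_typeA {G : Type u} [Group G] {M : Subgroup G} (hI : IsOfTypeI M) :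
    suppA M = typeA M := by
  rw [typeA, if_pos hI]; rfl

/-- The shape of a maximal subgroup with `κ(M) = ∅`. -/
structure OneData {G : Type u} [Group G] (M : Subgroup G) : Prop where
  typeF : IsOfTypeF M
  core : sigmaCore M = fittingHallOf M
  cases : IsTISubset (fittingHallOf M : Set G) ∨
    (IsMulCommutative (fittingHallOf M) ∧ RankLE 2 (fittingHallOf M) ∧
      ¬ RankLE 1 (fittingHallOf M)) ∨
    ((∀ p : ℕ, p.Prime → p ∣ Nat.card (fittingHallOf M) →
        Monoid.exponent (M ⧸ fittingHall M) ∣ p - 1) ∧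
      ∃ p : ℕ, p.Prime ∧ p ∣ Nat.card (fittingHallOf M) ∧
        IsCyclic (pPrimeCore p (fittingHallOf M)))

/-- The results from the earlier sections. -/
structure Inputs (G : Type u) [Group G] [Finite G] : Prop where
  minSimple : IsMinSimpleOddOrder G
  data : ∀ M : Subgroup G, IsCoatom M → kappa M = ∅ → OneData M
  kappa_of_typeI : ∀ M : Subgroup G, IsCoatom M → IsOfTypeI M → kappa M = ∅
  dade : ∀ M : Subgroup G, IsCoatom M → kappa M = ∅ →
    DadeHypothesis (suppA M) M (supportR M)
  /-- For a maximal subgroup of type `P` the centralisers of `M_σ` stay inside. -/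
  typeP_centralizer : ∀ L : Subgroup G, IsCoatom L → (kappa L).Nonempty →
    ∀ x ∈ sigmaCore L, x ≠ 1 → Subgroup.centralizer ({x} : Set G) ≤ L

end Cfsg.Agent.PF12
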