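import Cfsg.Agent.PF12.Main
import Cfsg.Agent.PF13.PairStructure

/-!
# S1540 from the inputs of §9-§11
-/

set_option autoImplicit false

namespace Cfsg.Agent.PF12

open Cfsg

universe u

variable {G : Type u} [Group G]

/-- The statement of S1540. -/
theorem typeI_frobenius [Finite G] (h : Inputs G) {M : Subgroup G} (hM : IsCoatom M)
    (hI : IsOfTypeI M) : ∀ x ∈ fittingHallOf M, x ≠ 1 →
      M ⊓ Subgroup.centralizer ({x} : Set G) ≤ fittingHallOf M :=
  frobenius h M hM (h.kappa_of_typeI M hM hI)

/-- The inputs when every maximal subgroup has `κ = ∅`. -/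
theorem inputs_of_kappa_empty [Finite G] (hG : IsMinSimpleOddOrder G)
    (hall : ∀ M : Subgroup G, IsCoatom M → kappa M = ∅) : Inputs G where
  minSimple := hG
  data _ hM hk := BGSummary.oneData hG hM hk
  kappa_of_typeI := PF8.kappa_of_typeI hG
  dade := PF8.dade_suppA hG
  typeP_centralizer L hL hne := absurd (hall L hL) hne.ne_empty

theorem frobenius_of_kappa_empty [Finite G] (hG : IsMinSimpleOddOrder G)
    (hall : ∀ M : Subgroup G, IsCoatom M → kappa M = ∅) : BGSummary.FrobeniusOne G :=
  frobenius (inputs_of_kappa_empty hG hall)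

theorem frobenius_of [Fintype G] (hG : IsMinSimpleOddOrder G) (h34 : PF13.Shape34 G)
    (hV : PF13.NoV G) : BGSummary.FrobeniusOne G :=
  frobenius (PF13.pf12Inputs hG h34 hV)

end Cfsg.Agent.PF12
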