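import Cfsg.Agent.PF12.NotAllOne
import Cfsg.Agent.PF12.Rows

/-!
# Some maximal subgroup has `κ ≠ ∅`
-/

set_option autoImplicit false

namespace Cfsg.Agent.PF12

open Cfsg

theorem someKappa {G : Type*} [Group G] [Finite G] (hG : IsMinSimpleOddOrder G) :
    ∃ M : Subgroup G, IsCoatom M ∧ (kappa M).Nonempty := by
  by_contra hno
  push Not at hno
  obtain ⟨M, hM, hk⟩ := exists_kappa_nonempty hG (frobenius_of_kappa_empty hG hno)
  exact hk.ne_empty (hno M hM)

end Cfsg.Agent.PF12
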