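import Cfsg.Agent.PF12.Congr

/-!
# Peterfalvi (12.7): a maximal subgroup with `κ(M) = ∅` is a Frobenius group with kernel `M_F`
-/

set_option autoImplicit false
set_option linter.style.haveILetI false
set_option linter.unusedSectionVars false

namespace Cfsg.Agent.PF12

open Cfsg Subgroup
open scoped Classical ComplexConjugate

variable {G : Type*} [Group G] [Fintype G]
variable {M L : Subgroup G} [Fintype M] [Fintype L] {p : ℕ} {x : G}

/-- `|K : K'|` is congruent to `1` modulo `p` and greater than `2 p`. -/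
theorem Config.two_mul_lt_index (cf : Config M L p x) (h : Inputs G) :
    2 * p < (derK M).index := by
  have hp := cf.prime
  obtain ⟨z, hzM, hzo, hz⟩ := cf.fpf
  set K := fittingHall M
  set N := derK M
  let zM : M := ⟨z, hzM⟩
  let φ : MulAut K := MulAut.conjNormal zM
  have hN : ∀ ψ : MulAut K, ∀ h ∈ N, ψ h ∈ N := fun ψ h hh => by
    have hmem : ψ h ∈ Subgroup.map ψ.toMonoidHom (⁅(⊤ : Subgroup K), ⊤⁆ : Subgroup K) :=
      ⟨h, by rwa [← commutator_def], rfl⟩
    rw [map_commutator] at hmem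
    show ψ h ∈ commutator K
    rw [commutator_def]
    exact commutator_mono le_top le_top hmem
  let σ : Equiv.Perm {k : K // k ∉ N} :=
    { toFun := fun k => ⟨φ k, fun hk => k.2 (by simpa using hN φ.symm _ hk)⟩
      invFun := fun k => ⟨φ.symm k, fun hk => k.2 (by simpa using hN φ _ hk)⟩
      left_inv := fun k => Subtype.ext (φ.symm_apply_apply _)
      right_inv := fun k => Subtype.ext (φ.apply_symm_apply _) }
  have hpow : ∀ (i : ℕ) (k : {k : K // k ∉ N}),
      (((σ ^ i) k : {k : K // k ∉ N}) : K) = (φ ^ i : MulAut K) k := by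
    intro i
    induction i with
    | zero => simp
    | succ i ih =>
      intro k
      rw [pow_succ', pow_succ', Equiv.Perm.mul_apply]
      show φ (((σ ^ i) k : {k : K // k ∉ N}) : K) = φ ((φ ^ i : MulAut K) k)
      rw [ih]
  have hσ : σ ^ p = 1 := by
    ext k
    rw [hpow, show φ ^ p = 1 by
      rw [show φ = MulAut.conjNormal zM from rfl, ← map_pow,
        show zM ^ p = 1 from Subtype.ext (by
          show z ^ p = 1
          rw [← hzo, pow_orderOf_eq_one]), map_one]]
    simp
  obtain ⟨s, hs, hc⟩ := cong_sum_fixed hp σ hσ (fun _ => (1 : ℂ)) (fun _ => rfl)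
    fun _ => PInt.of_int hp isIntegral_one
  have hs0 : s = ∅ := Finset.eq_empty_of_forall_notMem fun k hk => by
    have he : z * ((k.1 : M) : G) * z⁻¹ = ((k.1 : M) : G) :=
      congrArg (fun w : {k : K // k ∉ N} => ((w.1 : M) : G)) (hs k hk)
    have := hz _ ((coe_mem_fittingHallOf (k.1 : M)).2 k.1.2) (mul_inv_eq_iff_eq_mul.1 he)
    exact k.2 (by rw [show k.1 = 1 from Subtype.ext (Subtype.ext this)]; exact N.one_mem)
  rw [hs0, Finset.sum_empty, sub_zero, Finset.sum_const, Finset.card_univ, nsmul_one] at hc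
  have hd : p ∣ Fintype.card {k : K // k ∉ N} :=
    Int.natCast_dvd_natCast.1 (Cong.dvd hp (by push_cast; exact hc))
  rw [Fintype.card_subtype_compl, ← Nat.card_eq_fintype_card, ← Nat.card_eq_fintype_card,
    show Nat.card {k : K // k ∈ N} = Nat.card N from rfl, ← N.index_mul_card,
    ← Nat.sub_one_mul] at hd
  have hNp : ¬ p ∣ Nat.card N := fun hh => cf.not_dvd (hh.trans (by
    rw [BGUniq.card_fittingHallOf]; exact card_subgroup_dvd_card N))
  have hn := (hp.dvd_mul.1 hd).resolve_right hNp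
  obtain ⟨y, hy, hy', -⟩ := cf.fixed
  have h1 : N.index ≠ 1 := fun e => hy' ((mem_derK (⟨⟨y, BGUniq.fittingHallOf_le M hy⟩,
    (coe_mem_fittingHallOf (⟨y, BGUniq.fittingHallOf_le M hy⟩ : M)).1 hy⟩ : K)).2
      (by show _ ∈ N; rw [index_eq_one.1 e]; exact mem_top _))
  obtain ⟨a, ha⟩ : Odd N.index := (h.minSimple.1.of_dvd_nat
    ((card_subgroup_dvd_card K).trans (card_subgroup_dvd_card M))).of_dvd_nat N.index_dvd_card
  obtain ⟨b, hb⟩ := cf.odd
  obtain ⟨m, hm⟩ := hn
  rcases m with _ | _ | m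
  · omega
  · omega
  · rw [mul_add, mul_add] at hm
    omega

/-- The configuration is impossible. -/
theorem Config.elim (cf : Config M L p x) (h : Inputs G) : False := by
  obtain ⟨τ₁, ζ, st⟩ := exists_setting cf h
  obtain ⟨a, -, ha⟩ := st.kernel.rho_self st.mem st.one
  obtain ⟨D, hD⟩ := st.exists_D
  obtain ⟨rfl, hmass⟩ := st.mass ha hD
  obtain ⟨c, hc⟩ := st.congr_D hD ha
  have hn : 2 * (p : ℤ) < ((derK M).index : ℤ) := by exact_mod_cast cf.two_mul_lt_index h
  have he2 : 2 * ((fittingHall L).index : ℤ) ≤ p + 1 := by exact_mod_cast cf.two_e_le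
  have he3 : 3 ≤ ((fittingHall L).index : ℤ) := by exact_mod_cast cf.three_le_e
  set e : ℤ := ((fittingHall L).index : ℤ)
  set n : ℤ := ((derK M).index : ℤ)
  have hD2 : (e - 1) ^ 2 ≤ D ^ 2 := by
    refine sq_le_sq.2 ?_
    rw [abs_of_nonneg (by omega : (0 : ℤ) ≤ e - 1)]
    by_contra hlt
    push Not at hlt
    obtain ⟨h1, h2⟩ := abs_lt.1 hlt
    rcases lt_trichotomy c 0 with hc0 | rfl | hc0
    · nlinarith
    · omega
    · nlinarith
  have h1 : (1 : ℤ) ≤ (e - 1) ^ 2 - e := by nlinarith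
  nlinarith [mul_le_mul_of_nonneg_left hD2 (by omega : (0 : ℤ) ≤ n - 1),
    mul_le_mul_of_nonneg_left h1 (by omega : (0 : ℤ) ≤ n - 1)]

omit [Fintype G] [Fintype M] [Fintype L] in
theorem noPlaneBelow [Finite G] (h : Inputs G) (p : ℕ) : NoPlaneBelow G p := by
  haveI : Fintype G := Fintype.ofFinite G
  induction p using Nat.strong_induction_on with
  | h p ih =>
    intro M hM hκ q hq hqp E hEM hE hEc
    haveI := Fact.mk hq
    by_contra hqK
    obtain ⟨L, x, c, w⟩ := exists_witness h hM hκ hqK hEM hE hEc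
    haveI : Fintype M := Fintype.ofFinite M
    haveI : Fintype L := Fintype.ofFinite L
    exact (exists_config h (ih q hqp) w).elim h

omit [Fintype G] [Fintype M] [Fintype L] in
/-- Peterfalvi (12.7). -/
theorem frobenius [Finite G] (h : Inputs G) : BGSummary.FrobeniusOne G := by
  intro M hM hκ
  obtain ⟨U, U₀, U₁, s⟩ := exists_shape (h.data M hM hκ)
  refine (s.exists_plane_or_frobenius h.minSimple.1).resolve_right ?_
  rintro ⟨q, hq, hqK, E, hEU, hE, hEc⟩
  exact hqK (noPlaneBelow h (q + 1) M hM hκ q hq (Nat.lt_succ_self q) E (hEU.trans s.U_le) hE hEc)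

end Cfsg.Agent.PF12
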