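import Cfsg.Agent.PF12.Inputs
import Cfsg.Agent.BGUniq.MinSimple
import Cfsg.Agent.BGUniq.FittingHall
import Cfsg.Agent.BGSummary.TypeTools
import Cfsg.Agent.BGSigma.Basic
import Cfsg.Agent.Lib.Coprime.SchurZassenhaus
import Cfsg.Agent.Lib.Frobenius.FixedPointFree
import Cfsg.Agent.CharDeep.FpfCyclic
import Mathlib.GroupTheory.SpecificGroups.ZGroup

/-!
# Complements of `M_F` when `κ(M) = ∅`
-/

set_option autoImplicit false
set_option linter.style.haveILetI false
set_option linter.unusedSectionVars false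

namespace Cfsg.Agent.PF12

open Cfsg Subgroup

variable {G : Type*} [Group G] [Finite G]

/-- A complement of `K = M_F` with the data of type `F`. -/
structure Shape (M K U U₀ U₁ : Subgroup G) : Prop where
  eq : K = fittingHallOf M
  le : K ≤ M
  ne : K ≠ ⊥
  normal : M ≤ normalizer (K : Set G)
  nilpotent : Group.IsNilpotent K
  coprime : (Nat.card K).Coprime (K.relIndex M)
  compl : IsComplIn K U M
  exponent_quot : Monoid.exponent U = Monoid.exponent (M ⧸ fittingHall M)
  U_ne : U ≠ ⊥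
  le₀ : U₀ ≤ U
  exponent_eq : Monoid.exponent U₀ = Monoid.exponent U
  fpf : Frobenius.IsFPF U₀ K
  le₁ : U₁ ≤ U
  comm₁ : IsMulCommutative U₁
  cent₁ : ∀ x ∈ K, x ≠ 1 → U ⊓ centralizer ({x} : Set G) ≤ U₁

theorem exists_shape {M : Subgroup G} (h : OneData M) :
    ∃ U U₀ U₁ : Subgroup G, Shape M (fittingHallOf M) U U₀ U₁ := by
  obtain ⟨-, -, hK1, -, U, hU1, hUc, ⟨U₁, hU₁U, -, hU₁c, hcent⟩, U₀, hU₀U, hexp, hfpf⟩ := h.typeF
  set K' : Subgroup M := fittingHall M with hK'
  have hinj := M.subtype_injective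
  refine ⟨U.map M.subtype, U₀.map M.subtype, U₁.map M.subtype,
    { eq := rfl
      le := BGUniq.fittingHallOf_le M
      ne := fun e => hK1 ((map_eq_bot_iff_of_injective _ hinj).1 e)
      normal := BGSummary.le_normalizer_fittingHallOf M
      nilpotent := Group.nilpotent_of_mulEquiv
        (_h := BGUniq.fittingHall_isNilpotent M) (K'.equivMapOfInjective M.subtype hinj)
      coprime := BGSummary.fittingHallOf_relIndex_coprime M
      compl := ⟨BGUniq.fittingHallOf_le M, map_subtype_le U, ?_, fun m hm => ?_⟩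
      exponent_quot := ?_
      U_ne := fun e => hU1 ((map_eq_bot_iff_of_injective _ hinj).1 e)
      le₀ := map_mono hU₀U
      exponent_eq := ?_
      fpf := ⟨(map_subtype_le U₀).trans (BGSummary.le_normalizer_fittingHallOf M), ?_⟩
      le₁ := map_mono hU₁U
      comm₁ := Subgroup.map_isMulCommutative _ _
      cent₁ := ?_ }⟩
  · rw [fittingHallOf, ← map_inf _ _ _ hinj, disjoint_iff.1 hUc.disjoint, Subgroup.map_bot]
  · obtain ⟨⟨⟨a, ha⟩, ⟨b, hb⟩⟩, hab⟩ := hUc.2 (⟨m, hm⟩ : M)
    exact ⟨(a : G), ⟨a, ha, rfl⟩, (b : G), ⟨b, hb, rfl⟩, (congrArg Subtype.val hab).symm⟩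
  · rw [← Monoid.exponent_eq_of_mulEquiv (U.equivMapOfInjective M.subtype hinj)]
    exact (Monoid.exponent_eq_of_mulEquiv hUc.symm.QuotientMulEquiv.symm)
  · rw [← Monoid.exponent_eq_of_mulEquiv (U₀.equivMapOfInjective M.subtype hinj), hexp,
      Monoid.exponent_eq_of_mulEquiv (U.equivMapOfInjective M.subtype hinj)]
  · rintro - ⟨a, ha, rfl⟩ ha1
    rw [Subgroup.eq_bot_iff_forall]
    rintro y ⟨⟨v, hv, rfl⟩, hy⟩
    have hc : a * v = v * a := hinj (mem_centralizer_singleton_iff.1 hy).symm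
    rw [hfpf a ha (fun e => ha1 (by rw [e]; rfl)) v hv hc, map_one]
  · rintro - ⟨v, hv, rfl⟩ hv1 y ⟨⟨u, hu, rfl⟩, hy⟩
    exact ⟨u, hcent v hv (fun e => hv1 (by rw [e]; rfl)) ⟨hu, mem_centralizer_singleton_iff.2
      (hinj (mem_centralizer_singleton_iff.1 hy))⟩, rfl⟩

namespace Shape

variable {M K U U₀ U₁ : Subgroup G}

theorem U_le (s : Shape M K U U₀ U₁) : U ≤ M := s.compl.2.1

theorem card_U (s : Shape M K U U₀ U₁) : Nat.card U = K.relIndex M :=
  (BGSummary.card_eq_of_complIn s.compl s.normal).symm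

theorem coprime_U (s : Shape M K U U₀ U₁) : (Nat.card K).Coprime (Nat.card U) :=
  s.card_U.symm ▸ s.coprime

theorem sup_eq (s : Shape M K U U₀ U₁) : K ⊔ U = M :=
  le_antisymm (sup_le s.le s.U_le) fun m hm => by
    obtain ⟨a, ha, b, hb, rfl⟩ := s.compl.2.2.2 m hm
    exact Subgroup.mul_mem_sup ha hb

/-- An element whose order is prime to `|K|` is conjugate into `U`. -/
theorem exists_conj_mem (s : Shape M K U U₀ U₁) {g : G} (hg : g ∈ M)
    (hcop : (orderOf g).Coprime (Nat.card K)) : ∃ n ∈ K, n * g * n⁻¹ ∈ U := by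
  obtain ⟨n, hn, h⟩ := Coprime.exists_conj_le K (zpowers g) U
    ((zpowers_le.2 hg).trans s.normal) (s.U_le.trans s.normal)
    (s.sup_eq.symm ▸ zpowers_le.2 hg) (by rwa [Nat.card_zpowers]) s.coprime_U.symm
    (Or.inl inferInstance)
  exact ⟨n, hn, h g (mem_zpowers g)⟩

/-- The fixed point free case. -/
theorem frobenius_of_eq (s : Shape M K U U₀ U₁) (hU : U₀ = U) :
    ∀ x ∈ K, x ≠ 1 → M ⊓ centralizer ({x} : Set G) ≤ K := by
  intro x hx hx1 g hg
  by_contra hgK
  -- pass to the part of order prime to `|K|`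
  set g' := g ^ Nat.card K with hg'
  have hg'M : g' ∈ M := pow_mem hg.1 _
  have hgc : Commute g x := mem_centralizer_singleton_iff.1 hg.2
  have hpow : g ^ K.relIndex M ∈ K := by
    haveI := (normal_subgroupOf_iff_le_normalizer s.le).2 s.normal
    exact (K.subgroupOf M).pow_index_mem ⟨g, hg.1⟩
  have hne : g' ≠ 1 := by
    intro h0
    refine hgK ?_
    have hord : (orderOf g).Coprime (K.relIndex M) :=
      s.coprime.coprime_dvd_left (orderOf_dvd_of_pow_eq_one h0)
    obtain ⟨m, hm⟩ := exists_pow_eq_self_of_coprime hord.symm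
    rw [← hm]
    exact pow_mem hpow m
  have hord' : (orderOf g').Coprime (Nat.card K) := by
    refine Nat.Coprime.coprime_dvd_left (orderOf_dvd_of_pow_eq_one ?_) s.coprime.symm
    rw [hg', ← pow_mul, mul_comm, pow_mul]
    exact orderOf_dvd_iff_pow_eq_one.1 (K.orderOf_dvd_natCard hpow)
  obtain ⟨n, hn, hU'⟩ := s.exists_conj_mem hg'M hord'
  have hc : (n * g' * n⁻¹) * (n * x * n⁻¹) = (n * x * n⁻¹) * (n * g' * n⁻¹) := by
    have : Commute g' x := hgc.pow_left _
    calc (n * g' * n⁻¹) * (n * x * n⁻¹) = n * (g' * x) * n⁻¹ := by group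
      _ = n * (x * g') * n⁻¹ := by rw [this.eq]
      _ = _ := by group
  have h1 := s.fpf.eq_one_of_commute (hU ▸ hU' : n * g' * n⁻¹ ∈ U₀)
    (fun e => hne (conj_eq_one_iff.1 e)) (K.mul_mem (K.mul_mem hn hx) (K.inv_mem hn)) hc
  exact hx1 (conj_eq_one_iff.1 h1)

/-- A plane in `U` when some Sylow subgroup of `U` is not cyclic. -/
theorem exists_plane_or_frobenius (hG : Odd (Nat.card G)) (s : Shape M K U U₀ U₁) :
    (∀ x ∈ K, x ≠ 1 → M ⊓ centralizer ({x} : Set G) ≤ K) ∨
      ∃ p : ℕ, p.Prime ∧ ¬ p ∣ Nat.card K ∧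
        ∃ E : Subgroup G, E ≤ U ∧ IsElementaryAbelian p E ∧ Nat.card E = p ^ 2 := by
  by_cases hZ : IsZGroup U
  · refine Or.inl (s.frobenius_of_eq (Subgroup.eq_of_le_of_card_ge s.le₀ ?_))
    rw [← IsZGroup.exponent_eq_card (G := U), ← s.exponent_eq]
    exact Nat.le_of_dvd Nat.card_pos Group.exponent_dvd_nat_card
  refine Or.inr ?_
  rw [isZGroup_iff] at hZ
  push Not at hZ
  obtain ⟨p, hp, P, hP⟩ := hZ
  haveI := Fact.mk hp
  have hpU : p ∣ Nat.card U := by
    by_contra hd
    refine hP ?_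
    haveI : Subsingleton P := (Nat.card_eq_one_iff_unique.1 (by
      rw [Sylow.card_eq_multiplicity, Nat.factorization_eq_zero_of_not_dvd hd, pow_zero])).1
    infer_instance
  have hodd : Odd p := (hG.of_dvd_nat (card_subgroup_dvd_card U)).of_dvd_nat hpU
  refine ⟨p, hp, fun hd => hp.ne_one (Nat.eq_one_of_dvd_coprimes s.coprime_U hd hpU), ?_⟩
  obtain ⟨a, b, hab, ha, hb, hnot⟩ : ∃ a b : P, Commute a b ∧ orderOf a = p ∧ orderOf b = p ∧
      a ∉ zpowers b := by
    by_contra hall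
    push Not at hall
    exact hP (CharDeep.Zass.isCyclic_of_no_pair hodd P.2 fun a b h1 h2 h3 => hall a b h1 h2 h3)
  let a' : G := ((a : U) : G)
  let b' : G := ((b : U) : G)
  have hab' : Commute a' b' := congrArg (fun z : P => ((z : U) : G)) hab.eq
  have ho : ∀ z : P, orderOf ((z : U) : G) = orderOf z := fun z =>
    (Subgroup.orderOf_coe (z : U)).trans (Subgroup.orderOf_coe z)
  have hna : a' ∉ zpowers b' := by
    rintro ⟨n, hn⟩
    exact hnot ⟨n, Subtype.ext (Subtype.ext (by simpa using hn))⟩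
  refine ⟨zpowers a' ⊔ zpowers b', sup_le (zpowers_le.2 (a : U).2) (zpowers_le.2 (b : U).2),
    ⟨?_, ?_⟩, ?_⟩
  · rw [zpowers_eq_closure, zpowers_eq_closure, ← Subgroup.closure_union]
    refine isMulCommutative_closure fun x hx y hy => ?_
    simp only [Set.singleton_union, Set.mem_insert_iff, Set.mem_singleton_iff] at hx hy
    rcases hx with rfl | rfl <;> rcases hy with rfl | rfl
    · rfl
    · exact hab'.eq
    · exact hab'.symm.eq
    · rfl
  · intro x hx
    rw [← SetLike.mem_coe, coe_mul_of_left_le_normalizer_right _ _ ((zpowers_le.2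
      (mem_centralizer_iff.2 fun z hz => by
        obtain ⟨n, rfl⟩ := hz; exact (hab'.zpow_right n).symm.eq)).trans
          (centralizer_le_normalizer _))] at hx
    obtain ⟨u, ⟨i, rfl⟩, v, ⟨j, rfl⟩, rfl⟩ := hx
    rw [(hab'.zpow_zpow i j).mul_pow, ← zpow_natCast, ← zpow_natCast, ← zpow_mul, ← zpow_mul,
      mul_comm i, mul_comm j, zpow_mul, zpow_mul, zpow_natCast, zpow_natCast,
      ← (ho a).trans ha, pow_orderOf_eq_one, one_zpow]
    rw [(ho a).trans ha, ← (ho b).trans hb, pow_orderOf_eq_one, one_zpow, one_mul]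
  · have hn : zpowers a' ≤ normalizer (zpowers b' : Set G) :=
      (zpowers_le.2 (mem_centralizer_iff.2 fun z hz => by
        obtain ⟨n, rfl⟩ := hz; exact (hab'.zpow_right n).symm.eq)).trans
          (centralizer_le_normalizer _)
    have hi : zpowers a' ⊓ zpowers b' = ⊥ := by
      rcases (Nat.dvd_prime hp).1 (((ho a).trans ha) ▸ Nat.card_zpowers a' ▸
          card_dvd_of_le (inf_le_left : zpowers a' ⊓ zpowers b' ≤ zpowers a')) with h1 | h1
      · exact eq_bot_of_card_eq _ h1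
      · refine absurd ?_ hna
        have := Subgroup.eq_of_le_of_card_ge (inf_le_left : zpowers a' ⊓ zpowers b' ≤ zpowers a')
          (by rw [h1, Nat.card_zpowers, ho a, ha])
        exact ((this.symm.le (mem_zpowers a')).2)
    have h1 := Thompson.card_sup_mul_card_inf hn
    rw [sup_comm, inf_comm, hi, card_bot, mul_one, Nat.card_zpowers, Nat.card_zpowers, ho a, ha, ho b, hb] at h1
    rw [h1, sq]

end Shape

end Cfsg.Agent.PF12
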