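import Cfsg.Agent.PF12.Mass
import Cfsg.Agent.S1494
import Cfsg.Agent.S1495

/-!
# Congruences modulo `1 - exp (2πi/p)` with denominators prime to `p`
-/

set_option autoImplicit false
set_option linter.style.haveILetI false
set_option linter.unusedSectionVars false

namespace Cfsg.Agent.PF12

open Cfsg Subgroup
open scoped Classical ComplexConjugate

/-- Integral at `p`. -/
def PInt (p : ℕ) (z : ℂ) : Prop := ∃ m : ℕ, ¬ p ∣ m ∧ IsIntegral ℤ ((m : ℂ) * z)

/-- Divisible by `1 - ε` at `p`. -/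
def Cong (p : ℕ) (z : ℂ) : Prop :=
  ∃ m : ℕ, ¬ p ∣ m ∧ ∃ ω : ℂ, IsIntegral ℤ ω ∧
    (m : ℂ) * z = (1 - Complex.exp (2 * Real.pi * Complex.I / p)) * ω

section Calc

variable {p : ℕ} (hp : p.Prime)
include hp

theorem PInt.of_int {z : ℂ} (h : IsIntegral ℤ z) : PInt p z :=
  ⟨1, hp.not_dvd_one, by simpa using h⟩

theorem PInt.sub {z w : ℂ} : PInt p z → PInt p w → PInt p (z - w) := by
  rintro ⟨m, hm, h⟩ ⟨n, hn, h'⟩
  refine ⟨m * n, fun hd => (hp.dvd_mul.1 hd).elim hm hn, ?_⟩
  rw [show (((m * n : ℕ) : ℂ)) * (z - w) = (n : ℂ) * ((m : ℂ) * z) - (m : ℂ) * ((n : ℂ) * w) by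
    push_cast; ring]
  exact ((isIntegral_algebraMap (x := (n : ℤ))).mul h).sub
    ((isIntegral_algebraMap (x := (m : ℤ))).mul h')

theorem Cong.zero : Cong p 0 := ⟨1, hp.not_dvd_one, 0, isIntegral_zero, by simp⟩

theorem Cong.neg {z : ℂ} : Cong p z → Cong p (-z) := by
  rintro ⟨m, hm, ω, hω, h⟩
  exact ⟨m, hm, -ω, hω.neg, by rw [mul_neg, h]; ring⟩

theorem Cong.add {z w : ℂ} : Cong p z → Cong p w → Cong p (z + w) := by
  rintro ⟨m, hm, ω, hω, h⟩ ⟨n, hn, η, hη, h'⟩
  refine ⟨m * n, fun hd => (hp.dvd_mul.1 hd).elim hm hn, (n : ℂ) * ω + (m : ℂ) * η,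
    ((isIntegral_algebraMap (x := (n : ℤ))).mul hω).add
      ((isIntegral_algebraMap (x := (m : ℤ))).mul hη), ?_⟩
  push_cast
  linear_combination (n : ℂ) * h + (m : ℂ) * h'

theorem Cong.sub {z w : ℂ} (h : Cong p z) (h' : Cong p w) : Cong p (z - w) := by
  rw [sub_eq_add_neg]; exact Cong.add hp h (Cong.neg hp h')

theorem Cong.sum {ι : Type*} (s : Finset ι) (f : ι → ℂ) (h : ∀ i ∈ s, Cong p (f i)) :
    Cong p (∑ i ∈ s, f i) :=
  Finset.sum_induction _ (Cong p) (fun _ _ => Cong.add hp) (Cong.zero hp) h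

theorem Cong.of_mul {z : ℂ} {n : ℕ} (hn : ¬ p ∣ n) : Cong p ((n : ℂ) * z) → Cong p z := by
  rintro ⟨m, hm, ω, hω, h⟩
  exact ⟨m * n, fun hd => (hp.dvd_mul.1 hd).elim hm hn, ω, hω, by push_cast; rw [← h]; ring⟩

theorem Cong.prime_mul {z : ℂ} : PInt p z → Cong p ((p : ℂ) * z) := by
  rintro ⟨m, hm, hz⟩
  set ε := Complex.exp (2 * Real.pi * Complex.I / p)
  have hε : IsPrimitiveRoot ε p := Complex.isPrimitiveRoot_exp p hp.ne_zero
  have hεi : IsIntegral ℤ ε := hε.isIntegral hp.pos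
  refine ⟨m, hm, (∑ k ∈ Finset.range p, ∑ j ∈ Finset.range k, ε ^ j) * ((m : ℂ) * z),
    (IsIntegral.sum _ fun k _ => IsIntegral.sum _ fun j _ => hεi.pow j).mul hz, ?_⟩
  rw [← mul_assoc (1 - ε), Finset.mul_sum,
    Finset.sum_congr rfl fun k _ => mul_neg_geom_sum ε k, Finset.sum_sub_distrib,
    hε.geom_sum_eq_zero hp.one_lt, Finset.sum_const, Finset.card_range, nsmul_one, sub_zero]
  ring

theorem Cong.dvd {n : ℤ} : Cong p (n : ℂ) → (p : ℤ) ∣ n := by
  rintro ⟨m, hm, ω, hω, h⟩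
  have hd := S1495.result p hp ((m : ℤ) * n) ω hω (by push_cast; exact h)
  exact ((Nat.prime_iff_prime_int.1 hp).dvd_mul.1 hd).resolve_left
    fun h' => hm (Int.natCast_dvd_natCast.1 h')

/-- A sum invariant under a permutation of order dividing `p` reduces to the fixed points. -/
theorem cong_sum_fixed {Ω : Type*} [Fintype Ω] (σ : Equiv.Perm Ω) (hσ : σ ^ p = 1) (g : Ω → ℂ)
    (hinv : ∀ v, g (σ v) = g v) (hint : ∀ v, PInt p (g v)) :
    ∃ s : Finset Ω, (∀ v ∈ s, σ v = v) ∧ Cong p (∑ v, g v - ∑ v ∈ s, g v) := by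
  refine ⟨Finset.univ.filter (fun v => σ v = v), fun v hv => (Finset.mem_filter.1 hv).2, ?_⟩
  set P := zpowers σ
  have horb : ∀ v w : Ω, w ∈ MulAction.orbit P v → g w = g v ∧ (σ v = v → w = v) := by
    rintro v w ⟨⟨a, i, rfl⟩, rfl⟩
    show g ((σ ^ i) v) = g v ∧ (σ v = v → (σ ^ i) v = v)
    refine ⟨?_, fun h => Equiv.Perm.zpow_apply_eq_self_of_apply_eq_self h i⟩
    induction i with
    | zero => simp
    | succ i ih => rw [add_comm, zpow_one_add, Equiv.Perm.mul_apply, hinv, ih]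
    | pred i ih =>
      have h1 := hinv ((σ ^ (-(i : ℤ) - 1)) v)
      rw [← Equiv.Perm.mul_apply, ← zpow_one_add, show (1 : ℤ) + (-(i : ℤ) - 1) = -(i : ℤ) by ring]
        at h1
      rw [← h1, ih]
  have hsub : ∑ v, g v - ∑ v ∈ Finset.univ.filter (fun v => σ v = v), g v =
      ∑ v ∈ Finset.univ.filter (fun v => ¬ σ v = v), g v := by
    rw [sub_eq_iff_eq_add', Finset.sum_filter_add_sum_filter_not]
  rw [hsub]
  rw [← Finset.sum_fiberwise (Finset.univ.filter fun v => ¬ σ v = v)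
    (fun v => (Quotient.mk'' v : MulAction.orbitRel.Quotient P Ω))]
  refine Cong.sum hp _ _ fun q _ => ?_
  induction q using Quotient.inductionOn' with
  | h v =>
    have hmem : ∀ w : Ω, (Quotient.mk'' w : MulAction.orbitRel.Quotient P Ω) = Quotient.mk'' v ↔
        w ∈ MulAction.orbit P v := fun w => Quotient.eq''.trans Iff.rfl
    by_cases hv : σ v = v
    · rw [Finset.sum_eq_zero fun w hw => ?_]
      · exact Cong.zero hp
      · obtain ⟨hw1, hw2⟩ := Finset.mem_filter.1 hw
        have := (horb v w ((hmem w).1 hw2)).2 hv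
        exact absurd (this ▸ hv) ((Finset.mem_filter.1 hw1).2)
    · have hfilter : ((Finset.univ.filter fun v => ¬ σ v = v).filter fun w =>
          (Quotient.mk'' w : MulAction.orbitRel.Quotient P Ω) = Quotient.mk'' v) =
          (MulAction.orbit P v).toFinset := by
        ext w
        simp only [Finset.mem_filter, Finset.mem_univ, true_and, hmem, Set.mem_toFinset,
          and_iff_right_iff_imp]
        intro hw hwfix
        have hvw : v ∈ MulAction.orbit P w := MulAction.mem_orbit_symm.1 hw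
        exact hv (((horb w v hvw).2 hwfix).symm ▸ hwfix)
      have hcard : (MulAction.orbit P v).toFinset.card = p := by
        have hd : (MulAction.orbit P v).toFinset.card ∣ p := by
          rw [Set.toFinset_card]
          refine (Dvd.intro _ (MulAction.card_orbit_mul_card_stabilizer_eq_card_group P v)).trans ?_
          rw [← Nat.card_eq_fintype_card, Nat.card_zpowers]
          exact orderOf_dvd_of_pow_eq_one hσ
        refine ((Nat.dvd_prime hp).1 hd).resolve_left fun h1 => hv ?_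
        obtain ⟨u, hu⟩ := Finset.card_eq_one.1 h1
        have m1 : σ v ∈ (MulAction.orbit P v).toFinset :=
          Set.mem_toFinset.2 ⟨⟨σ, mem_zpowers σ⟩, rfl⟩
        have m2 : v ∈ (MulAction.orbit P v).toFinset :=
          Set.mem_toFinset.2 (MulAction.mem_orbit_self v)
        rw [hu, Finset.mem_singleton] at m1 m2
        rw [m1, m2]
      rw [hfilter, Finset.sum_congr rfl fun w hw => (horb v w (Set.mem_toFinset.1 hw)).1,
        Finset.sum_const, hcard, nsmul_eq_mul]
      exact Cong.prime_mul hp (hint v)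

end Calc

variable {G : Type*} [Group G] [Fintype G]
variable {M L : Subgroup G} [Fintype M] [Fintype L] {p : ℕ} {x : G}

namespace Setting

variable {τ₁ : (L → ℂ) → (G → ℂ)} {ζ : L → ℂ} (st : Setting M L p x τ₁ ζ)

include st

theorem psi_int (g : G) : IsIntegral ℤ (τ₁ ζ g) :=
  CharCore.IsGeneralizedCharacter.isIntegral (st.kernel.gen st.mem) g

theorem not_dvd_card_R {a : G} (ha : a ∈ suppA M) : ¬ p ∣ Nat.card (supportR M a) := by
  intro hd
  refine st.config.prime.ne_one (Nat.eq_one_of_dvd_coprimes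
    (st.dadeM.coprime a ha x st.config.x_mem_suppA) hd ?_)
  rw [← st.config.x_order]
  exact Subgroup.orderOf_dvd_natCard _
    ⟨st.config.x_mem_M, mem_centralizer_singleton_iff.2 rfl⟩

theorem f_pint (y : M) : PInt p (fFun M (τ₁ ζ) y) := by
  by_cases hy : (y : G) ∈ suppA M
  · refine ⟨Nat.card (supportR M (y : G)), st.not_dvd_card_R hy, ?_⟩
    rw [fFun, PF7.rho_eq_sum _ hy, ← mul_assoc,
      mul_inv_cancel₀ (Nat.cast_ne_zero.2 Nat.card_pos.ne'), one_mul]
    exact IsIntegral.sum _ fun u _ => st.psi_int _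
  · rw [fFun, PF7.rho_of_notMem hy]
    exact PInt.of_int st.config.prime isIntegral_zero

/-- On elements of `M_F` centralised by `x` the adjoint is congruent to `ψ`. -/
theorem f_congr {y : M} (hy : (y : G) ∈ fittingHallOf M) (hy1 : (y : G) ≠ 1)
    (hxy : x * y = y * x) : Cong p (fFun M (τ₁ ζ) y - τ₁ ζ y) := by
  have hp := st.config.prime
  set a : G := (y : G) with ha
  have hA : a ∈ suppA M := Config.mem_suppA_of_mem hy hy1
  have hxc : x ∈ centralizer ({a} : Set G) := mem_centralizer_singleton_iff.2 hxy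
  set R := supportR M a with hR
  have hconj : ∀ {c : G}, c ∈ centralizer ({a} : Set G) → ∀ u ∈ R, c * u * c⁻¹ ∈ R :=
    fun hc u hu => st.dadeM.conj_mem_H a hA _ hc u hu
  let σ : Equiv.Perm R :=
    { toFun := fun u => ⟨x * u * x⁻¹, hconj hxc u u.2⟩
      invFun := fun u => ⟨x⁻¹ * u * x, by simpa using hconj (inv_mem hxc) u u.2⟩
      left_inv := fun u => Subtype.ext (by simp [mul_assoc])
      right_inv := fun u => Subtype.ext (by simp [mul_assoc]) }
  have hpow : ∀ (k : ℕ) (u : R), ((σ ^ k) u : G) = x ^ k * u * (x ^ k)⁻¹ := by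
    intro k
    induction k with
    | zero => simp
    | succ k ih =>
      intro u
      rw [pow_succ', Equiv.Perm.mul_apply]
      show x * ((σ ^ k) u : G) * x⁻¹ = _
      rw [ih, pow_succ']; group
  have hσ : σ ^ p = 1 := by
    ext u
    rw [hpow, ← st.config.x_order, pow_orderOf_eq_one]
    simp
  have hfix : ∀ u : R, σ u = u → u = 1 := by
    intro u hu
    have hu' : x * (u : G) * x⁻¹ = u := congrArg Subtype.val hu
    have hmem : (u : G) ∈ R ⊓ (M ⊓ centralizer ({a} : Set G)) :=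
      ⟨u.2, st.config.cent_le (mem_centralizer_singleton_iff.2 (mul_inv_eq_iff_eq_mul.1 hu').symm),
        st.dadeM.le_centralizer a hA u.2⟩
    rw [st.dadeM.inf_eq_bot a hA, mem_bot] at hmem
    exact Subtype.ext hmem
  have h := cong_sum_fixed hp σ hσ (fun u : R => τ₁ ζ (a * u) - τ₁ ζ a) (fun u => by
    show τ₁ ζ (a * (x * u * x⁻¹)) - _ = _
    rw [← st.psi_class (a * u) x]
    congr 2
    rw [← mul_assoc x a, hxy]
    group)
    fun u => PInt.of_int hp ((st.psi_int _).sub (st.psi_int _))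
  have h0 : ∀ s : Finset R, (∀ u ∈ s, σ u = u) → ∑ u ∈ s, (τ₁ ζ (a * u) - τ₁ ζ a) = 0 :=
    fun s hs => Finset.sum_eq_zero fun u hu => by rw [hfix u (hs u hu)]; simp
  obtain ⟨s₀, hs₀, h⟩ := h
  rw [h0 _ hs₀, sub_zero, Finset.sum_sub_distrib, Finset.sum_const,
    Finset.card_univ, nsmul_eq_mul, ← Nat.card_eq_fintype_card] at h
  refine Cong.of_mul hp (st.not_dvd_card_R hA) ?_
  rw [mul_sub, fFun, PF7.rho_eq_sum _ (a := y) hA, ← mul_assoc,
    mul_inv_cancel₀ (Nat.cast_ne_zero.2 Nat.card_pos.ne'), one_mul]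
  exact h

theorem congr_D {D : ℤ} (hD : ∀ θ : IrrCharacter (fittingHall M), θ ∈ trivSet (derK M) →
    (θ : fittingHall M → ℂ) ≠ (fun _ => 1) →
    classInner (fFun M (τ₁ ζ)) (indFun (fittingHall M) (fun _ : fittingHall M => (1 : ℂ))) -
      classInner (fFun M (τ₁ ζ)) (indFun (fittingHall M) (θ : fittingHall M → ℂ)) = (D : ℂ))
    (ha : ∀ y : L, y ∈ fittingHall L → y ≠ 1 →
      PF7.rho (suppA L) L (supportR L) (τ₁ ζ) y = ζ y + ((0 : ℤ) : ℂ)) :
    (p : ℤ) ∣ D - (fittingHall L).index := by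
  have hp := st.config.prime
  have hxL : x ∈ L := BGUniq.fittingHallOf_le L st.config.x_mem
  have hψx : τ₁ ζ x = ζ ⟨x, hxL⟩ := by rw [st.psi_x ha hxL]; simp
  set e : ℂ := ((fittingHall L).index : ℂ) with he
  have hex : Cong p (τ₁ ζ x - e) := by
    obtain ⟨ω, hω, h⟩ := S1494.result ζ (Coherence.irr_gen (st.kernel.mem_irr st.mem)) p hp
      (⟨x, hxL⟩ : L) 1 (by rw [Subgroup.orderOf_mk, st.config.x_order]) (by simp)
    rw [mul_one, st.one, ← hψx] at h
    exact ⟨1, hp.not_dvd_one, ω, hω, by rw [Nat.cast_one, one_mul]; exact h⟩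
  obtain ⟨c, hc, hc', hxc⟩ := st.config.fixed
  have hcM := BGUniq.fittingHallOf_le M hc
  set K := fittingHall M
  set N := derK M
  let y : K := ⟨⟨c, hcM⟩, (coe_mem_fittingHallOf (⟨c, hcM⟩ : M)).1 hc⟩
  have hy : y ∉ N := fun h => hc' ((mem_derK y).2 h)
  let xM : M := ⟨x, st.config.x_mem_M⟩
  let φ : MulAut K := MulAut.conjNormal xM
  have hφy : φ y = y := Subtype.ext (Subtype.ext (by
    show x * c * x⁻¹ = c
    rw [hxc]; group))
  have hφN' : ∀ ψ : MulAut K, ∀ h ∈ N, ψ h ∈ N := fun ψ h hh => by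
    have hmem : ψ h ∈ Subgroup.map ψ.toMonoidHom (⁅(⊤ : Subgroup K), ⊤⁆ : Subgroup K) :=
      ⟨h, by rwa [← commutator_def], rfl⟩
    rw [map_commutator] at hmem
    show ψ h ∈ commutator K
    rw [commutator_def]
    exact commutator_mono le_top le_top hmem
  have hφN : ∀ h ∈ N, φ h ∈ N := hφN' φ
  let σ : Equiv.Perm N :=
    { toFun := fun h => ⟨φ h, hφN h h.2⟩
      invFun := fun h => ⟨φ.symm h, hφN' φ.symm h h.2⟩
      left_inv := fun h => Subtype.ext (φ.symm_apply_apply _)
      right_inv := fun h => Subtype.ext (φ.apply_symm_apply _) }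
  have hpow : ∀ (k : ℕ) (h : N), (((σ ^ k) h : N) : K) = (φ ^ k : MulAut K) h := by
    intro k
    induction k with
    | zero => simp
    | succ k ih =>
      intro h
      rw [pow_succ', pow_succ', Equiv.Perm.mul_apply]
      show φ (((σ ^ k) h : N) : K) = φ ((φ ^ k : MulAut K) h)
      rw [ih]
  have hσ : σ ^ p = 1 := by
    ext h
    rw [hpow, show φ ^ p = 1 by
      rw [show φ = MulAut.conjNormal xM from rfl, ← map_pow,
        show xM ^ p = 1 from Subtype.ext (by
          show x ^ p = 1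
          rw [← st.config.x_order, pow_orderOf_eq_one]), map_one]]
    simp
  set f := fFun M (τ₁ ζ) with hf
  have hinv : ∀ h : N, f ((y * (σ h : K) : K) : M) - e = f ((y * h : K) : M) - e := by
    intro h
    rw [hf, ← st.f_class ((y * h : K) : M) xM]
    congr 2
    rw [show y * (σ h : K) = φ (y * h) by rw [map_mul, hφy]; rfl]
    rfl
  have h1 := cong_sum_fixed hp σ hσ (fun h : N => f ((y * h : K) : M) - e) hinv
    fun h => PInt.sub hp (st.f_pint _) (PInt.of_int hp (by
      rw [he]; exact isIntegral_algebraMap (x := ((fittingHall L).index : ℤ))))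
  have h2 : ∀ s : Finset N, (∀ h ∈ s, σ h = h) →
      Cong p (∑ h ∈ s, (f ((y * h : K) : M) - e)) := by
    intro s hs
    refine Cong.sum hp _ _ fun h hh => ?_
    have hσh : φ (h : K) = h := congrArg Subtype.val (hs h hh)
    set b : K := y * h with hb
    have hfix : φ b = b := by rw [hb, map_mul, hφy, hσh]
    set g : G := ((b : M) : G) with hg
    have hxg : x * g = g * x := by
      have h' : x * g * x⁻¹ = g := congrArg (fun z : K => ((z : M) : G)) hfix
      exact mul_inv_eq_iff_eq_mul.1 h'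
    have hgK : g ∈ fittingHallOf M := (coe_mem_fittingHallOf (b : M)).2 b.2
    have hg1 : g ≠ 1 := fun e' => hy (by
      have hb1 : y * (h : K) = 1 := Subtype.ext (Subtype.ext e')
      rw [eq_inv_of_mul_eq_one_left hb1]; exact N.inv_mem h.2)
    obtain ⟨ω, hω, h494⟩ := S1494.result (τ₁ ζ) (st.kernel.gen st.mem) p hp x g st.config.x_order hxg
    rw [st.psi_mul hgK hxg] at h494
    have h3 : Cong p (τ₁ ζ x - τ₁ ζ g) :=
      ⟨1, hp.not_dvd_one, ω, hω, by rw [Nat.cast_one, one_mul]; exact h494⟩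
    have := Cong.add hp (Cong.sub hp (st.f_congr (y := (b : M)) hgK hg1 hxg) h3) hex
    convert this using 1
    ring
  obtain ⟨s₀, hs₀, h1⟩ := h1
  have h4 := Cong.add hp h1 (h2 _ hs₀)
  rw [sub_add_cancel, Finset.sum_sub_distrib, coset_sum_ind N (fun a b => by
      rw [show N = commutator _ from rfl, commutator_def]
      exact commutator_mem_commutator (mem_top a) (mem_top b)) st.f_class (D : ℂ) hD hy,
    Finset.sum_const, Finset.card_univ, nsmul_eq_mul, ← Nat.card_eq_fintype_card, ← mul_sub] at h4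
  have hN : ¬ p ∣ Nat.card N := fun hd => st.config.not_dvd (hd.trans (by
    rw [BGUniq.card_fittingHallOf]; exact card_subgroup_dvd_card N))
  have h5 := Cong.of_mul hp hN h4
  refine Cong.dvd hp ?_
  rw [he] at h5
  push_cast
  convert h5 using 1

end Setting

end Cfsg.Agent.PF12
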