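import Cfsg.Agent.PF12.Inflate
import Cfsg.Agent.S0161
import Cfsg.Agent.S1491
import Cfsg.Agent.Coherence.SeqInd
import Cfsg.Agent.Coherence.Irr
import Cfsg.Agent.OddChar.Normal
import Cfsg.Agent.Coherence.Fixed

/-!
# Constituents of the characters induced from a normal Hall subgroup with abelian inertia quotients
-/

set_option autoImplicit false
set_option linter.style.haveILetI false

namespace Cfsg.Agent.PF12

open Cfsg
open scoped ComplexConjugate Classical

variable {Q : Type*} [Group Q] [Fintype Q] {K : Subgroup Q} [K.Normal]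

/-- Elements centralising non-identity elements of `K` commute modulo `K`. -/
structure AbelianFix (K : Subgroup Q) : Prop where
  odd : Odd (Nat.card Q)
  coprime : (Nat.card K).Coprime K.index
  comm : ∀ x y : Q, (∃ k ∈ K, k ≠ 1 ∧ x * k = k * x) → (∃ k ∈ K, k ≠ 1 ∧ y * k = k * y) →
    x * y * x⁻¹ * y⁻¹ ∈ K

/-- The constituents of `Ind θ`. -/
noncomputable def cons (K : Subgroup Q) (θ : K → ℂ) : Finset (IrrCharacter Q) :=
  Finset.univ.filter fun i => classInner (indFun K θ) (i : Q → ℂ) ≠ 0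

theorem AbelianFix.fixed (h : AbelianFix K) {θ : IrrCharacter K}
    (hθ : (θ : K → ℂ) ≠ fun _ => 1) {x : Q}
    (hx : OddChar.conjBy K x (θ : K → ℂ) = θ) : ∃ k ∈ K, k ≠ 1 ∧ x * k = k * x := by
  obtain ⟨k, hk1, hk⟩ := (Coherence.exists_fixed_irr_iff K x).1 ⟨θ, θ.2, hθ, hx⟩
  obtain ⟨c, hc⟩ := isConj_iff.1 hk
  -- the coset `x K` meets the centraliser of `k`
  have h1 : ((c : Q) * x) * (k : Q) * ((c : Q) * x)⁻¹ = k := by
    have := congrArg Subtype.val hc
    simp only [Subgroup.coe_mul, Subgroup.coe_inv, MulAut.conjNormal_apply] at this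
    calc ((c : Q) * x) * (k : Q) * ((c : Q) * x)⁻¹ = c * (x * k * x⁻¹) * (c : Q)⁻¹ := by group
      _ = k := this
  by_contra hall
  push Not at hall
  -- `K x` is one class under `K`
  have hinj : Function.Injective (fun d : K => (⟨(d : Q) * x * (d : Q)⁻¹ * x⁻¹, by
      rw [show (d : Q) * x * (d : Q)⁻¹ * x⁻¹ = d * (x * (d : Q)⁻¹ * x⁻¹) by group]
      exact K.mul_mem d.2 (Subgroup.Normal.conj_mem inferInstance _ (K.inv_mem d.2) x)⟩ : K)) := by
    intro a b hab
    have e1 : (a : Q) * x * (a : Q)⁻¹ = b * x * (b : Q)⁻¹ :=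
      mul_right_cancel (congrArg Subtype.val hab)
    refine Subtype.ext (inv_mul_eq_one.1 (?_ : (b : Q)⁻¹ * a = 1)).symm
    by_contra hne
    refine hall _ (K.mul_mem (K.inv_mem b.2) a.2) hne ?_
    calc x * ((b : Q)⁻¹ * a) = (b : Q)⁻¹ * (b * x * (b : Q)⁻¹) * a := by group
      _ = (b : Q)⁻¹ * (a * x * (a : Q)⁻¹) * a := by rw [e1]
      _ = (b : Q)⁻¹ * a * x := by group
  obtain ⟨d, hd⟩ := Finite.surjective_of_injective hinj c
  have hd' : (d : Q) * x * (d : Q)⁻¹ = (c : Q) * x := by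
    rw [← congrArg Subtype.val hd]; group
  refine hall ((d : Q)⁻¹ * k * d) (K.mul_mem (K.mul_mem (K.inv_mem d.2) k.2) d.2)
    (fun e => hk1 (Subtype.ext (by
      have := congrArg (fun z => (d : Q) * z * (d : Q)⁻¹) e
      simpa [mul_assoc] using this))) ?_
  have h2 : ((c : Q) * x) * k = k * ((c : Q) * x) := mul_inv_eq_iff_eq_mul.1 h1
  rw [← hd'] at h2
  calc x * ((d : Q)⁻¹ * k * d) = (d : Q)⁻¹ * ((d * x * (d : Q)⁻¹) * k) * d := by group
    _ = (d : Q)⁻¹ * (k * (d * x * (d : Q)⁻¹)) * d := by rw [h2]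
    _ = (d : Q)⁻¹ * k * d * x := by group

theorem AbelianFix.cons_spec (h : AbelianFix K) {θ : IrrCharacter K}
    (hθ : (θ : K → ℂ) ≠ fun _ => 1) :
    indFun K (θ : K → ℂ) = ∑ i ∈ cons K (θ : K → ℂ), (i : Q → ℂ) ∧
      (∀ i ∈ cons K (θ : K → ℂ), classInner (indFun K (θ : K → ℂ)) (i : Q → ℂ) = 1) ∧
      Odd (cons K (θ : K → ℂ)).card ∧
      ∃ d : ℂ, ∀ i ∈ cons K (θ : K → ℂ), (i : Q → ℂ) 1 = d := by
  let T : Subgroup Q :=
    { carrier := {g | OddChar.conjBy K g (θ : K → ℂ) = θ}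
      one_mem' := OddChar.conjBy_one K _
      mul_mem' := fun {a b} ha hb => by
        show OddChar.conjBy K (a * b) _ = _
        rw [OddChar.conjBy_mul, show OddChar.conjBy K a (θ : K → ℂ) = θ from ha]
        exact hb
      inv_mem' := fun {a} ha => by
        show OddChar.conjBy K a⁻¹ _ = _
        conv_lhs => rw [← (show OddChar.conjBy K a (θ : K → ℂ) = θ from ha)]
        rw [← OddChar.conjBy_mul, mul_inv_cancel, OddChar.conjBy_one] }
  have hKT : K ≤ T := fun k hk => by
    show OddChar.conjBy K k (θ : K → ℂ) = θ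
    funext y
    rw [← CharCore.irr_isClassFunction θ y ⟨k, hk⟩]
    rfl
  have hdvd : K.relIndex T ∣ K.index := Dvd.intro _ (Subgroup.relIndex_mul_index hKT)
  obtain ⟨C, hC, hcard, hind, hdeg⟩ := S1491.result K T (θ : K → ℂ) θ.2
    (fun g => ⟨fun hg y => congrFun hg y, fun hg => funext hg⟩)
    (fun x hx y hy => h.comm x y (h.fixed hθ hx) (h.fixed hθ hy))
    (h.coprime.coprime_dvd_right hdvd)
  have hval : ∀ i : IrrCharacter Q, classInner (indFun K (θ : K → ℂ)) (i : Q → ℂ) =
      if (i : Q → ℂ) ∈ C then 1 else 0 := by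
    intro i
    rw [hind, Coherence.inner_sum_left]
    split_ifs with hi
    · rw [Finset.sum_eq_single (i : Q → ℂ)
        (fun χ hχ hne => Coherence.irr_inner_ne (hC χ hχ) i.2 hne) (fun hn => absurd hi hn)]
      exact Coherence.irr_inner_self i.2
    · exact Finset.sum_eq_zero fun χ hχ =>
        Coherence.irr_inner_ne (hC χ hχ) i.2 fun e => hi (e ▸ hχ)
  have hmem : ∀ i : IrrCharacter Q, i ∈ cons K (θ : K → ℂ) ↔ (i : Q → ℂ) ∈ C := by
    intro i
    simp [cons, hval]
  have himg : (cons K (θ : K → ℂ)).image (fun i : IrrCharacter Q => (i : Q → ℂ)) = C := by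
    ext χ
    simp only [Finset.mem_image]
    exact ⟨fun ⟨i, hi, e⟩ => e ▸ (hmem i).1 hi, fun hχ => ⟨⟨χ, hC χ hχ⟩, (hmem _).2 hχ, rfl⟩⟩
  refine ⟨?_, fun i hi => by rw [hval, if_pos ((hmem i).1 hi)], ?_,
    (T.index : ℂ) * (θ : K → ℂ) 1, fun i hi => hdeg _ ((hmem i).1 hi)⟩
  · rw [hind, ← himg, Finset.sum_image Subtype.val_injective.injOn]
  · rw [show (cons K (θ : K → ℂ)).card = C.card by
      rw [← himg, Finset.card_image_of_injective _ Subtype.val_injective], hcard]
    exact h.odd.of_dvd_nat (hdvd.trans K.index_dvd_card)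

theorem cons_notMem_trivSet {θ : IrrCharacter K} (hθ : (θ : K → ℂ) ≠ fun _ => 1)
    {i : IrrCharacter Q} (hi : i ∈ cons K (θ : K → ℂ)) : i ∉ trivSet K := by
  intro ht
  refine (Finset.mem_filter.1 hi).2 ?_
  rw [CharInd.classInner_indFun_left K _ (CharCore.irr_isClassFunction i)]
  have e : (fun k : K => (i : Q → ℂ) k) = (i : Q → ℂ) 1 • (fun _ : K => (1 : ℂ)) := by
    funext k
    simp [(mem_trivSet K).1 ht k k.2]
  rw [e, Coherence.inner_smul_right,
    show classInner (θ : K → ℂ) (fun _ => 1) = 0 from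
      Coherence.irr_inner_ne θ.2 CharCore.isIrrCharacter_one hθ, mul_zero]

theorem AbelianFix.inner_restrict (h : AbelianFix K) {θ : IrrCharacter K}
    (hθ : (θ : K → ℂ) ≠ fun _ => 1) (i : IrrCharacter Q) :
    classInner (fun k : K => (i : Q → ℂ) k) (θ : K → ℂ) =
      if i ∈ cons K (θ : K → ℂ) then 1 else 0 := by
  rw [← CharInd.classInner_indFun_right K (θ : K → ℂ) (CharCore.irr_isClassFunction i),
    ← Coherence.inner_conj_symm]
  split_ifs with hi
  · rw [(h.cons_spec hθ).2.1 i hi, map_one]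
  · rw [not_not.1 fun hne => hi (Finset.mem_filter.2 ⟨Finset.mem_univ _, hne⟩), map_zero]

theorem inner_restrict_one {i : IrrCharacter Q} (hi : i ∉ trivSet K) :
    classInner (fun k : K => (i : Q → ℂ) k) (fun _ : K => (1 : ℂ)) = 0 := by
  have h := coset_sum_eq_zero K hi 1
  simp only [one_mul] at h
  simp [CharCore.classInner_def, h]

/-- Two induced characters with a common constituent are equal. -/
theorem AbelianFix.ind_eq_of_common (h : AbelianFix K) {θ θ' : IrrCharacter K}
    (hθ : (θ : K → ℂ) ≠ fun _ => 1) (hθ' : (θ' : K → ℂ) ≠ fun _ => 1) {i : IrrCharacter Q}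
    (hi : i ∈ cons K (θ : K → ℂ)) (hi' : i ∈ cons K (θ' : K → ℂ)) :
    indFun K (θ : K → ℂ) = indFun K (θ' : K → ℂ) := by
  have hne : classInner (indFun K (θ : K → ℂ)) (indFun K (θ' : K → ℂ)) ≠ 0 := by
    rw [(h.cons_spec hθ').1, Coherence.inner_sum_right,
      show (∑ j ∈ cons K (θ' : K → ℂ), classInner (indFun K (θ : K → ℂ)) (j : Q → ℂ)) =
        ((cons K (θ' : K → ℂ) ∩ cons K (θ : K → ℂ)).card : ℂ) by
      rw [← Finset.sum_subset (Finset.inter_subset_left (s₂ := cons K (θ : K → ℂ)))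
          (fun j hj hj' => not_not.1 fun hne => hj' (Finset.mem_inter.2
            ⟨hj, Finset.mem_filter.2 ⟨Finset.mem_univ _, hne⟩⟩)),
        Finset.sum_congr rfl (fun j hj => (h.cons_spec hθ).2.1 j (Finset.mem_inter.1 hj).2),
        Finset.sum_const, nsmul_one]]
    exact Nat.cast_ne_zero.2 (Finset.card_pos.2 ⟨i, Finset.mem_inter.2 ⟨hi', hi⟩⟩).ne'
  rw [OddChar.classInner_indFun_normal] at hne
  obtain ⟨g, -, hg⟩ := Finset.exists_ne_zero_of_sum_ne_zero (right_ne_zero_of_mul hne)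
  have e : (θ : K → ℂ) = OddChar.conjBy K g (θ' : K → ℂ) := by
    by_contra hne'
    exact hg (Coherence.irr_inner_ne θ.2 (OddChar.conjBy_isIrr K g θ'.2) hne')
  rw [e, OddChar.indFun_conjBy]

/-- The complex conjugate of an irreducible character. -/
noncomputable def conjI {G : Type*} [Group G] [Finite G] (i : IrrCharacter G) : IrrCharacter G :=
  ⟨conjFun (i : G → ℂ), CharCore.isIrrCharacter_star i.2⟩

theorem conjI_ne (hodd : Odd (Nat.card Q)) {i : IrrCharacter Q} (hi : i ∉ trivSet K) :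
    conjI i ≠ i := by
  intro e
  refine hi ((mem_trivSet K).2 fun k _ => ?_)
  have h1 := S0161.result hodd i fun g => Complex.conj_eq_iff_im.1
    (congrFun (congrArg Subtype.val e) g)
  rw [h1]

theorem conjI_mem {i : IrrCharacter Q} (hi : i ∉ trivSet K) : conjI i ∉ trivSet K := by
  intro h
  refine hi ((mem_trivSet K).2 fun k hk => ?_)
  have := congrArg (starRingEnd ℂ) ((mem_trivSet K).1 h k hk)
  simpa [conjI, conjFun] using this

theorem AbelianFix.conj_ind_ne (h : AbelianFix K) {θ : IrrCharacter K}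
    (hθ : (θ : K → ℂ) ≠ fun _ => 1) :
    conjFun (indFun K (θ : K → ℂ)) ≠ indFun K (θ : K → ℂ) := by
  intro e
  obtain ⟨-, hone, hoddc, -⟩ := h.cons_spec hθ
  set C := cons K (θ : K → ℂ)
  have hclosed : ∀ i ∈ C, conjI i ∈ C := by
    intro i hi
    refine Finset.mem_filter.2 ⟨Finset.mem_univ _, ?_⟩
    rw [← e]
    have h1 : classInner (conjFun (indFun K (θ : K → ℂ))) (conjI i : Q → ℂ) =
        conj (classInner (indFun K (θ : K → ℂ)) (i : Q → ℂ)) := by
      simp [CharCore.classInner_def, conjFun, conjI, map_mul, map_sum]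
    rw [h1, hone i hi, map_one]
    exact one_ne_zero
  have h0 : ∑ _i ∈ C, (1 : ZMod 2) = 0 :=
    Finset.sum_involution (fun i _ => conjI i) (fun _ _ => by decide)
      (fun i hi _ => conjI_ne h.odd (cons_notMem_trivSet hθ hi))
      hclosed
      (fun i _ => Subtype.ext (funext fun x => by simp [conjI, conjFun]))
  rw [Finset.sum_const, nsmul_one, ZMod.natCast_eq_zero_iff_even] at h0
  exact (Nat.not_even_iff_odd.2 hoddc) h0

/-- A non-trivial character of degree `d` on average vanishes off `K`. -/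
theorem AbelianFix.sum_degree_eq_zero (h : AbelianFix K) (d : ℂ) {x : Q} (hx : x ∉ K) :
    ∑ i ∈ (trivSet K)ᶜ.filter (fun i : IrrCharacter Q => (i : Q → ℂ) 1 = d), (i : Q → ℂ) x = 0 := by
  set I := (trivSet K)ᶜ.filter (fun i : IrrCharacter Q => (i : Q → ℂ) 1 = d) with hI
  rcases I.eq_empty_or_nonempty with h0 | ⟨i₀, hi₀⟩
  · rw [h0, Finset.sum_empty]
  have hd : d ≠ 0 := (Finset.mem_filter.1 hi₀).2 ▸ CharCore.irr_apply_one_ne_zero i₀
  set Θ := (Finset.univ : Finset (IrrCharacter K)).filter fun θ : IrrCharacter K =>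
    (θ : K → ℂ) ≠ (fun _ => 1) ∧ ∀ i ∈ cons K (θ : K → ℂ), (i : Q → ℂ) 1 = d with hΘ
  have h1 : ∑ θ ∈ Θ, (θ : K → ℂ) 1 * indFun K (θ : K → ℂ) x = 0 :=
    Finset.sum_eq_zero fun θ _ => by rw [OddChar.indFun_eq_zero_of_notMem K _ hx, mul_zero]
  have h2 : ∀ θ ∈ Θ, (θ : K → ℂ) 1 * indFun K (θ : K → ℂ) x =
      ∑ i ∈ I, (if i ∈ cons K (θ : K → ℂ) then (θ : K → ℂ) 1 else 0) * (i : Q → ℂ) x := by
    intro θ hθ
    obtain ⟨hne, hdeg⟩ := (Finset.mem_filter.1 hθ).2
    have hsub : cons K (θ : K → ℂ) ⊆ I := by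
      intro i hi
      rw [hI, Finset.mem_filter, Finset.mem_compl]
      exact ⟨cons_notMem_trivSet hne hi, hdeg i hi⟩
    rw [(h.cons_spec hne).1, Finset.sum_apply, Finset.mul_sum]
    refine Eq.trans (Finset.sum_congr rfl fun i hi => ?_) (Finset.sum_subset hsub (f := fun i : IrrCharacter Q =>
      (if i ∈ cons K (θ : K → ℂ) then (θ : K → ℂ) 1 else 0) * (i : Q → ℂ) x) fun i _ hi => by
        rw [if_neg hi, zero_mul])
    rw [if_pos hi]
  rw [Finset.sum_congr rfl h2, Finset.sum_comm] at h1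
  have h3 : ∀ i ∈ I, ∑ θ ∈ Θ, (if i ∈ cons K (θ : K → ℂ) then (θ : K → ℂ) 1 else 0) *
      (i : Q → ℂ) x = d * (i : Q → ℂ) x := by
    intro i hi
    obtain ⟨hit, hid⟩ := Finset.mem_filter.1 hi
    rw [Finset.mem_compl] at hit
    rw [← Finset.sum_mul, ← hid]
    congr 1
    have hexp := congrFun (CharCore.IsCharacter.eq_sum_classInner
      (CharCore.isCharacter_restrict (CharCore.irr_isCharacter i) K)) 1
    simp only [Finset.sum_apply, Pi.smul_apply, smul_eq_mul, Subgroup.coe_one] at hexp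
    refine Eq.trans ?_ hexp.symm
    rw [← Finset.sum_subset (Finset.subset_univ Θ) (fun θ _ hθΘ => ?_)]
    · refine Finset.sum_congr rfl fun θ hθ => ?_
      rw [h.inner_restrict (Finset.mem_filter.1 hθ).2.1 i]
      split_ifs <;> simp
    · by_cases hne : (θ : K → ℂ) = fun _ => 1
      · rw [hne, inner_restrict_one hit, zero_mul]
      · rw [h.inner_restrict hne i, if_neg, zero_mul]
        intro hic
        obtain ⟨-, -, -, d', hd'⟩ := h.cons_spec hne
        refine hθΘ (Finset.mem_filter.2 ⟨Finset.mem_univ _, hne, fun j hj => ?_⟩)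
        rw [hd' j hj, ← hd' i hic, hid]
  rw [Finset.sum_congr rfl h3, ← Finset.mul_sum] at h1
  exact (mul_eq_zero.1 h1).resolve_left hd

/-- A class function pairing equally with characters of equal degree is constant on the cosets
outside `K`. -/
theorem AbelianFix.apply_mul_eq (h : AbelianFix K) {f : Q → ℂ} (hf : IsClassFunction Q f)
    (heq : ∀ i j : IrrCharacter Q, i ∉ trivSet K → j ∉ trivSet K →
      (i : Q → ℂ) 1 = (j : Q → ℂ) 1 → classInner f (i : Q → ℂ) = classInner f (j : Q → ℂ))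
    {x y : Q} (hx : x ∉ K) (hy : y ∈ K) : f (x * y) = f x := by
  have hxy : x * y ∉ K := fun hm => hx (by
    simpa using K.mul_mem hm (K.inv_mem hy))
  have key : ∀ z ∉ K, f z = ∑ i ∈ trivSet K, classInner f (i : Q → ℂ) * (i : Q → ℂ) z := by
    intro z hz
    have hexp := congrFun (CharCore.eq_sum_classInner hf) z
    simp only [Finset.sum_apply, Pi.smul_apply, smul_eq_mul] at hexp
    rw [hexp, ← Finset.sum_add_sum_compl (trivSet K), add_eq_left,
      ← Finset.sum_fiberwise_of_maps_to (t := (trivSet K)ᶜ.image fun i : IrrCharacter Q => (i : Q → ℂ) 1)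
        (g := fun i : IrrCharacter Q => (i : Q → ℂ) 1) (fun i hi => Finset.mem_image_of_mem _ hi)]
    refine Finset.sum_eq_zero fun d hd => ?_
    obtain ⟨i₀, hi₀, rfl⟩ := Finset.mem_image.1 hd
    rw [Finset.sum_congr rfl (g := fun i : IrrCharacter Q =>
        classInner f (i₀ : Q → ℂ) * (i : Q → ℂ) z) fun i hi => ?_, ← Finset.mul_sum,
      h.sum_degree_eq_zero _ hz, mul_zero]
    obtain ⟨hi1, hi2⟩ := Finset.mem_filter.1 hi
    rw [heq i i₀ (Finset.mem_compl.1 hi1) (Finset.mem_compl.1 hi₀) hi2]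
  rw [key _ hxy, key _ hx]
  exact Finset.sum_congr rfl fun i hi => by rw [apply_mul_of_trivSet K hi x hy]

omit [K.Normal] in
/-- The sums over the cosets of the derived subgroup of `K`. -/
theorem coset_sum_ind (N : Subgroup K) [N.Normal] (hN : ∀ a b : K, a * b * a⁻¹ * b⁻¹ ∈ N)
    {f : Q → ℂ} (hf : IsClassFunction Q f) (D : ℂ)
    (hD : ∀ θ : IrrCharacter K, θ ∈ trivSet N → (θ : K → ℂ) ≠ (fun _ => 1) →
      classInner f (indFun K (fun _ : K => (1 : ℂ))) - classInner f (indFun K (θ : K → ℂ)) = D)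
    {y : K} (hy : y ∉ N) : ∑ h : N, f ((y * h : K) : Q) = (Nat.card N : ℂ) * D := by
  have hres : IsClassFunction K (fun k : K => f k) := fun a b => by
    simpa using hf (a : Q) (b : Q)
  have hexp := CharCore.eq_sum_classInner hres
  set a := classInner f (indFun K (fun _ : K => (1 : ℂ))) with ha
  let one : IrrCharacter K := ⟨fun _ => 1, CharCore.isIrrCharacter_one⟩
  have h1 : one ∈ trivSet N := (mem_trivSet N).2 fun _ _ => rfl
  have hterm : ∀ θ : IrrCharacter K,
      ∑ h : N, classInner (fun k : K => f k) (θ : K → ℂ) * (θ : K → ℂ) (y * h) =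
        if θ ∈ trivSet N then (Nat.card N : ℂ) *
          ((a - if θ = one then 0 else D) * (θ : K → ℂ) y) else 0 := by
    intro θ
    rw [← Finset.mul_sum]
    split_ifs with ht h1'
    · subst h1'
      rw [← CharInd.classInner_indFun_right K _ hf, sub_zero, ha]
      simp [one, mul_comm]
    · rw [Finset.sum_congr rfl fun h _ => apply_mul_of_trivSet N ht y h.2, Finset.sum_const,
        nsmul_eq_mul, ← CharInd.classInner_indFun_right K _ hf, Finset.card_univ,
        ← Nat.card_eq_fintype_card, ← hD θ ht fun e => h1' (Subtype.ext e)]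
      ring
    · rw [coset_sum_eq_zero N ht y, mul_zero]
  have hsum : ∑ h : N, f ((y * h : K) : Q) = ∑ θ ∈ trivSet N, (Nat.card N : ℂ) *
      ((a - if θ = one then 0 else D) * (θ : K → ℂ) y) := by
    calc ∑ h : N, f ((y * h : K) : Q) = ∑ h : N, ∑ θ : IrrCharacter K,
          classInner (fun k : K => f k) (θ : K → ℂ) * (θ : K → ℂ) (y * h) := by
          refine Finset.sum_congr rfl fun h _ => ?_
          have := congrFun hexp (y * h)
          simpa only [Finset.sum_apply, Pi.smul_apply, smul_eq_mul] using this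
      _ = _ := by
          rw [Finset.sum_comm, Finset.sum_congr rfl fun θ _ => hterm θ, ← Finset.sum_filter]
          simp
  have hlin : ∑ θ ∈ trivSet N, (θ : K → ℂ) y = 0 := by
    rw [← sum_trivSet_degree N hy]
    exact Finset.sum_congr rfl fun θ hθ => by rw [trivSet_degree N hN hθ, one_mul]
  rw [hsum, ← Finset.mul_sum]
  congr 1
  rw [Finset.sum_congr rfl (g := fun θ : IrrCharacter K => (a - D) * (θ : K → ℂ) y +
      if θ = one then D else 0) fun θ _ => ?_, Finset.sum_add_distrib, ← Finset.mul_sum, hlin,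
    Finset.sum_ite_eq' (trivSet N) one, if_pos h1]
  · ring
  · split_ifs with e
    · subst e; simp [one]
    · ring

end Cfsg.Agent.PF12
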