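import Cfsg.Agent.Lib.CharCore.Linear
import Cfsg.Agent.Lib.CharCore.Complete
import Cfsg.Agent.Coherence.Inner

/-!
# Characters trivial on a normal subgroup: sums over cosets
-/

set_option autoImplicit false
set_option linter.style.haveILetI false

namespace Cfsg.Agent.PF12

open Cfsg
open scoped ComplexConjugate Classical

variable {Q : Type*} [Group Q] [Fintype Q] (N : Subgroup Q) [N.Normal]

/-- The irreducible characters with `N` in the kernel. -/
noncomputable def trivSet : Finset (IrrCharacter Q) :=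
  Finset.univ.filter fun χ => ∀ k ∈ N, (χ : Q → ℂ) k = (χ : Q → ℂ) 1

theorem mem_trivSet {χ : IrrCharacter Q} :
    χ ∈ trivSet N ↔ ∀ k ∈ N, (χ : Q → ℂ) k = (χ : Q → ℂ) 1 := by
  simp [trivSet]

/-- Inflation from `Q ⧸ N`. -/
noncomputable def inflate (χ : IrrCharacter (Q ⧸ N)) : IrrCharacter Q :=
  ⟨fun g => (χ : Q ⧸ N → ℂ) (QuotientGroup.mk' N g),
    CharCore.isIrrCharacter_comp_surjective χ.2 _ (QuotientGroup.mk'_surjective N)⟩

theorem inflate_apply (χ : IrrCharacter (Q ⧸ N)) (g : Q) :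
    (inflate N χ : Q → ℂ) g = (χ : Q ⧸ N → ℂ) (QuotientGroup.mk' N g) := rfl

theorem sum_trivSet {α : Type*} [AddCommMonoid α] (F : IrrCharacter Q → α) :
    ∑ χ ∈ trivSet N, F χ = ∑ χ : IrrCharacter (Q ⧸ N), F (inflate N χ) := by
  have himg : trivSet N = Finset.univ.image (inflate N) := by
    ext θ
    constructor
    · intro hθ
      obtain ⟨ψ, -, hψ, he⟩ := CharCore.IsCharacter.exists_quotient (CharCore.irr_isCharacter θ) N
        ((mem_trivSet N).1 hθ)
      exact Finset.mem_image.2 ⟨⟨ψ, hψ θ.2⟩, Finset.mem_univ _,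
        Subtype.ext (funext fun k => (he k).symm)⟩
    · intro h
      obtain ⟨χ, -, rfl⟩ := Finset.mem_image.1 h
      refine (mem_trivSet N).2 fun a ha => ?_
      rw [inflate_apply, inflate_apply, show QuotientGroup.mk' N a = 1 from
        (QuotientGroup.eq_one_iff a).2 ha, map_one]
  have hinj : Function.Injective (inflate N) := fun χ χ' h => Subtype.ext (funext fun q => by
    obtain ⟨k, rfl⟩ := QuotientGroup.mk'_surjective N q
    exact congrFun (congrArg Subtype.val h) k)
  rw [himg, Finset.sum_image hinj.injOn]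

theorem apply_mul_of_trivSet {χ : IrrCharacter Q} (hχ : χ ∈ trivSet N) (g : Q) {k : Q}
    (hk : k ∈ N) : (χ : Q → ℂ) (g * k) = (χ : Q → ℂ) g :=
  CharCore.IsCharacter.apply_mul_of_mem_kernel (CharCore.irr_isCharacter χ)
    ((mem_trivSet N).1 hχ k hk) g

theorem sum_trivSet_degree {y : Q} (hy : y ∉ N) :
    ∑ χ ∈ trivSet N, (χ : Q → ℂ) 1 * (χ : Q → ℂ) y = 0 := by
  rw [sum_trivSet]
  simp only [inflate_apply, map_one]
  rw [CharCore.sum_degree_mul_apply, if_neg]
  exact fun h => hy ((QuotientGroup.eq_one_iff y).1 h)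

/-- Above the derived subgroup the characters are linear. -/
theorem trivSet_degree (hN : ∀ a b : Q, a * b * a⁻¹ * b⁻¹ ∈ N) {χ : IrrCharacter Q}
    (hχ : χ ∈ trivSet N) : (χ : Q → ℂ) 1 = 1 := by
  obtain ⟨ψ, -, hψ, he⟩ := CharCore.IsCharacter.exists_quotient (CharCore.irr_isCharacter χ) N
    ((mem_trivSet N).1 hχ)
  haveI : IsMulCommutative (Q ⧸ N) := ⟨⟨fun a b => by
    obtain ⟨x, rfl⟩ := QuotientGroup.mk_surjective a
    obtain ⟨z, rfl⟩ := QuotientGroup.mk_surjective b
    rw [← QuotientGroup.mk_mul, ← QuotientGroup.mk_mul, QuotientGroup.eq]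
    simpa [mul_assoc] using hN z⁻¹ x⁻¹⟩⟩
  have hcomm : commutator (Q ⧸ N) = ⊥ := by
    rw [eq_bot_iff, commutator_def, Subgroup.commutator_le]
    intro a _ b _
    rw [Subgroup.mem_bot, commutatorElement_eq_one_iff_mul_comm]
    exact mul_comm' a b
  have hcard := CharCore.card_linearCharacters (G := Q ⧸ N)
  rw [hcomm, Subgroup.index_bot] at hcard
  have hall : ∀ φ : IrrCharacter (Q ⧸ N), (φ : Q ⧸ N → ℂ) 1 = 1 := by
    by_contra hne
    push Not at hne
    obtain ⟨φ, hφ⟩ := hne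
    have h := congrArg Complex.re (CharCore.sum_degree_sq (G := Q ⧸ N))
    rw [Complex.re_sum, Complex.natCast_re] at h
    have hge : ∀ η : IrrCharacter (Q ⧸ N),
        (if (η : Q ⧸ N → ℂ) 1 = 1 then (1 : ℝ) else 0) ≤ ((η : Q ⧸ N → ℂ) 1 ^ 2).re := by
      intro η
      obtain ⟨d, hd⟩ := CharCore.IsCharacter.exists_degree (CharCore.irr_isCharacter η)
      rw [hd]
      split_ifs with h1
      · rw [h1]; simp
      · simp [sq, ← Nat.cast_mul]
    obtain ⟨d, hd⟩ := CharCore.IsCharacter.exists_degree (CharCore.irr_isCharacter φ)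
    have hd0 : 0 < d := Nat.pos_of_ne_zero fun h0 => CharCore.irr_apply_one_ne_zero φ (by
      rw [hd, h0, Nat.cast_zero])
    have hlt : (if (φ : Q ⧸ N → ℂ) 1 = 1 then (1 : ℝ) else 0) < ((φ : Q ⧸ N → ℂ) 1 ^ 2).re := by
      rw [if_neg hφ, hd]
      simp only [sq, ← Nat.cast_mul, Complex.natCast_re]
      exact_mod_cast Nat.mul_pos hd0 hd0
    have hsum := Finset.sum_lt_sum (s := (Finset.univ : Finset (IrrCharacter (Q ⧸ N))))
      (fun η _ => hge η) ⟨φ, Finset.mem_univ _, hlt⟩
    rw [h, Finset.sum_boole] at hsum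
    rw [← hcard, Nat.card_eq_fintype_card, Fintype.card_subtype] at hsum
    exact lt_irrefl _ hsum
  rw [he, map_one]
  exact hall ⟨ψ, hψ χ.2⟩

/-- Column orthogonality among the characters with `N` in the kernel. -/
theorem sum_trivSet_norm_sq (x : Q) :
    ∑ χ ∈ trivSet N, ‖(χ : Q → ℂ) x‖ ^ 2 =
      (Nat.card (Subgroup.centralizer ({QuotientGroup.mk' N x} : Set (Q ⧸ N))) : ℝ) := by
  rw [sum_trivSet]
  have h := CharCore.sum_apply_mul_conj (QuotientGroup.mk' N x) (QuotientGroup.mk' N x)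
  rw [if_pos (IsConj.refl _)] at h
  have h' := congrArg Complex.re h
  rw [Complex.re_sum, Complex.natCast_re] at h'
  rw [← h']
  refine Finset.sum_congr rfl fun χ _ => ?_
  rw [inflate_apply, Complex.mul_conj', ← Complex.ofReal_pow, Complex.ofReal_re]

/-- A class function constant on the cosets of `N` is a combination of characters trivial on
`N`. -/
theorem exists_coeff {f : Q → ℂ} (hf : IsClassFunction Q f)
    (hc : ∀ g, ∀ k ∈ N, f (g * k) = f g) :
    ∃ c : IrrCharacter Q → ℂ, f = ∑ χ ∈ trivSet N, c χ • (χ : Q → ℂ) := by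
  let ψ : Q ⧸ N → ℂ := fun q => Quotient.liftOn' q f fun a b hab => by
    have := hc a _ (QuotientGroup.leftRel_apply.1 hab)
    rwa [mul_inv_cancel_left, eq_comm] at this
  have hψmk : ∀ g, ψ (QuotientGroup.mk' N g) = f g := fun _ => rfl
  have hψ : IsClassFunction (Q ⧸ N) ψ := by
    intro a b
    obtain ⟨x, rfl⟩ := QuotientGroup.mk'_surjective N a
    obtain ⟨z, rfl⟩ := QuotientGroup.mk'_surjective N b
    rw [← map_inv, ← map_mul, ← map_mul, hψmk, hψmk]
    exact hf x z
  have h := CharCore.eq_sum_classInner hψ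
  refine ⟨fun χ => if hχ : ∃ η, inflate N η = χ then classInner ψ (hχ.choose : Q ⧸ N → ℂ) else 0,
    funext fun g => ?_⟩
  rw [Finset.sum_apply, sum_trivSet, ← hψmk g, congrFun h, Finset.sum_apply]
  refine Finset.sum_congr rfl fun η _ => ?_
  simp only [Pi.smul_apply, smul_eq_mul, inflate_apply]
  have hex : ∃ η', inflate N η' = inflate N η := ⟨η, rfl⟩
  rw [dif_pos hex, show hex.choose = η from Subtype.ext (funext fun q => by
    obtain ⟨k, rfl⟩ := QuotientGroup.mk'_surjective N q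
    exact congrFun (congrArg Subtype.val hex.choose_spec) k)]

/-- An irreducible character not trivial on `N` sums to zero on every coset. -/
theorem coset_sum_eq_zero {θ : IrrCharacter Q} (hθ : θ ∉ trivSet N) [Fintype N] (y : Q) :
    ∑ h : N, (θ : Q → ℂ) (y * h) = 0 := by
  set φ : Q → ℂ := fun y => ∑ h : N, (θ : Q → ℂ) (y * h) with hφ
  have hθc : IsClassFunction Q (θ : Q → ℂ) := CharCore.irr_isClassFunction θ
  have hcl : IsClassFunction Q φ := by
    intro g x
    simp only [hφ]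
    refine Fintype.sum_equiv (MulAut.conjNormal x⁻¹ : MulAut N).toEquiv _ _ fun h => ?_
    rw [show x * g * x⁻¹ * (h : Q) = x * (g * (x⁻¹ * h * x)) * x⁻¹ by group, hθc]
    congr 1
    simp
  have hconst : ∀ g, ∀ k ∈ N, φ (g * k) = φ g := fun g k hk => by
    simp only [hφ]
    refine Fintype.sum_equiv (Equiv.mulLeft (⟨k, hk⟩ : N)) _ _ fun h => ?_
    simp [mul_assoc]
  obtain ⟨c, hc⟩ := exists_coeff N hcl hconst
  have horth : ∀ χ ∈ trivSet N, classInner φ (χ : Q → ℂ) = 0 := by
    intro χ hχ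
    have h0 : classInner (θ : Q → ℂ) (χ : Q → ℂ) = 0 :=
      CharCore.classInner_irr_of_ne fun e => hθ (e ▸ hχ)
    rw [CharCore.classInner_def] at h0 ⊢
    simp only [hφ, Finset.sum_mul]
    rw [Finset.sum_comm]
    have hterm : ∀ h : N, ∑ g : Q, (θ : Q → ℂ) (g * h) * conj ((χ : Q → ℂ) g) =
        ∑ g : Q, (θ : Q → ℂ) g * conj ((χ : Q → ℂ) g) := fun h => by
      refine Fintype.sum_equiv (Equiv.mulRight (h : Q)) _ _ fun g => ?_
      simp only [Equiv.coe_mulRight]
      rw [apply_mul_of_trivSet N hχ g h.2]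
    rw [Finset.sum_congr rfl fun h _ => hterm h, Finset.sum_const, nsmul_eq_mul,
      ← mul_assoc, mul_comm _ ((Finset.univ : Finset N).card : ℂ), mul_assoc, h0, mul_zero]
  have hself : classInner φ φ = 0 := by
    nth_rewrite 2 [hc]
    rw [Coherence.inner_sum_right]
    exact Finset.sum_eq_zero fun χ hχ => by rw [Coherence.inner_smul_right, horth χ hχ, mul_zero]
  exact congrFun (Coherence.inner_self_eq_zero.1 hself) y

/-- An irreducible character not trivial on `N` vanishes at an element fixed point free on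
`N`. -/
theorem apply_eq_zero_of_fpf {θ : IrrCharacter Q} (hθ : θ ∉ trivSet N) {x : Q}
    (hx : ∀ k ∈ N, k * x = x * k → k = 1) : (θ : Q → ℂ) x = 0 := by
  let f : Subgroup.centralizer ({x} : Set Q) →
      Subgroup.centralizer ({QuotientGroup.mk' N x} : Set (Q ⧸ N)) := fun g =>
    ⟨QuotientGroup.mk' N g, Subgroup.mem_centralizer_singleton_iff.2 (by
      rw [← map_mul, ← map_mul, Subgroup.mem_centralizer_singleton_iff.1 g.2])⟩
  have hsurj : Function.Surjective f := by
    rintro ⟨q, hq⟩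
    obtain ⟨m, rfl⟩ := QuotientGroup.mk'_surjective N q
    rw [Subgroup.mem_centralizer_singleton_iff, ← map_mul, ← map_mul] at hq
    have hk' : m * x * m⁻¹ * x⁻¹ ∈ N := by
      rw [← QuotientGroup.eq_one_iff]
      show QuotientGroup.mk' N (m * x * m⁻¹ * x⁻¹) = 1
      rw [map_mul, map_mul, hq, map_mul, map_inv, map_inv]
      group
    have hbij : Function.Surjective (fun k : N => (⟨(k : Q) * x * (k : Q)⁻¹ * x⁻¹, by
        rw [show (k : Q) * x * (k : Q)⁻¹ * x⁻¹ = k * (x * (k : Q)⁻¹ * x⁻¹) by group]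
        exact N.mul_mem k.2 (Subgroup.Normal.conj_mem inferInstance _ (N.inv_mem k.2) x)⟩ : N)) := by
      refine Finite.surjective_of_injective fun a b hab => ?_
      have h1 : (a : Q) * x * (a : Q)⁻¹ = b * x * (b : Q)⁻¹ :=
        mul_right_cancel (congrArg Subtype.val hab)
      refine Subtype.ext (inv_mul_eq_one.1 (hx _ (N.mul_mem (N.inv_mem b.2) a.2) ?_)).symm
      calc (b : Q)⁻¹ * a * x = (b : Q)⁻¹ * (a * x * (a : Q)⁻¹) * a := by group
        _ = (b : Q)⁻¹ * (b * x * (b : Q)⁻¹) * a := by rw [h1]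
        _ = x * ((b : Q)⁻¹ * a) := by group
    obtain ⟨k, hk⟩ := hbij ⟨_, hk'⟩
    have hk1 : (k : Q) * x * (k : Q)⁻¹ = m * x * m⁻¹ := mul_right_cancel (congrArg Subtype.val hk)
    refine ⟨⟨(k : Q)⁻¹ * m, Subgroup.mem_centralizer_singleton_iff.2 ?_⟩, Subtype.ext ?_⟩
    · calc (k : Q)⁻¹ * m * x = (k : Q)⁻¹ * (m * x * m⁻¹) * m := by group
        _ = (k : Q)⁻¹ * (k * x * (k : Q)⁻¹) * m := by rw [hk1]
        _ = x * ((k : Q)⁻¹ * m) := by group
    · show QuotientGroup.mk' N ((k : Q)⁻¹ * m) = QuotientGroup.mk' N m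
      rw [map_mul, map_inv, show QuotientGroup.mk' N (k : Q) = 1 from
        (QuotientGroup.eq_one_iff _).2 k.2, inv_one, one_mul]
  have hinj : Function.Injective f := by
    intro a b hab
    have h1 : (a : Q)⁻¹ * b ∈ N := QuotientGroup.eq.1 (congrArg Subtype.val hab)
    refine Subtype.ext (inv_mul_eq_one.1 (hx _ h1 ?_))
    exact Subgroup.mem_centralizer_singleton_iff.1
      ((Subgroup.centralizer ({x} : Set Q)).mul_mem
        ((Subgroup.centralizer ({x} : Set Q)).inv_mem a.2) b.2)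
  have hcard := Nat.card_congr (Equiv.ofBijective f ⟨hinj, hsurj⟩)
  have h := CharCore.sum_apply_mul_conj x x
  rw [if_pos (IsConj.refl _)] at h
  have hall : ∑ χ : IrrCharacter Q, ‖(χ : Q → ℂ) x‖ ^ 2 =
      (Nat.card (Subgroup.centralizer ({x} : Set Q)) : ℝ) := by
    have h' := congrArg Complex.re h
    rw [Complex.re_sum, Complex.natCast_re] at h'
    rw [← h']
    exact Finset.sum_congr rfl fun χ _ => by
      rw [Complex.mul_conj', ← Complex.ofReal_pow, Complex.ofReal_re]
  rw [← Finset.sum_add_sum_compl (trivSet N), sum_trivSet_norm_sq, hcard, add_eq_left] at hall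
  have hz := (Finset.sum_eq_zero_iff_of_nonneg fun χ _ => sq_nonneg _).1 hall θ
    (Finset.mem_compl.2 hθ)
  exact norm_eq_zero.1 ((pow_eq_zero_iff two_ne_zero).1 hz)

end Cfsg.Agent.PF12
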