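import Cfsg.Agent.PF12.Value

/-!
# Peterfalvi (12.7): the norm of `τ₁ ζ` on the two supports
-/

set_option autoImplicit false
set_option linter.style.haveILetI false
set_option linter.unusedSectionVars false

namespace Cfsg.Agent.PF12

open Cfsg Subgroup
open scoped Classical ComplexConjugate

variable {G : Type*} [Group G] [Fintype G]

/-- Dade data on a smaller invariant set. -/
theorem dade_restrict {A B : Set G} {L : Subgroup G} {R : G → Subgroup G}
    (hD : DadeHypothesis A L R) (hBA : B ⊆ A) (hB : ∀ x ∈ L, ∀ b ∈ B, x * b * x⁻¹ ∈ B) :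
    DadeHypothesis B L R where
  one_not_mem h := hD.one_not_mem (hBA h)
  subset := hBA.trans hD.subset
  conj_mem := hB
  fusion a ha g hg := hD.fusion a (hBA ha) g (hBA hg)
  le_centralizer a ha := hD.le_centralizer a (hBA ha)
  conj_mem_H a ha := hD.conj_mem_H a (hBA ha)
  inf_eq_bot a ha := hD.inf_eq_bot a (hBA ha)
  sup_eq a ha := hD.sup_eq a (hBA ha)
  coprime a ha b hb := hD.coprime a (hBA ha) b (hBA hb)

variable {M L : Subgroup G} [Fintype M] [Fintype L] {p : ℕ} {x : G}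

theorem index_eq (L : Subgroup G) : (fittingHall L).index = (fittingHallOf L).relIndex L := by
  rw [relIndex, PFTypeOne.subgroupOf_fittingHallOf]

namespace Config

theorem odd_e (cf : Config M L p x) : Odd (fittingHall L).index := index_eq L ▸ cf.odd_index

theorem three_le_e (cf : Config M L p x) : 3 ≤ (fittingHall L).index := by
  have h1 := index_eq L ▸ cf.index_ne_one
  obtain ⟨k, hk⟩ := cf.odd_e
  omega

theorem two_e_le (cf : Config M L p x) : 2 * (fittingHall L).index ≤ p + 1 :=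
  index_eq L ▸ cf.two_index_le

/-- `p ^ 2 ≤ |L_F|`. -/
theorem sq_le_card (cf : Config M L p x) (h : Inputs G) :
    p ^ 2 ≤ Nat.card (fittingHall L) := by
  haveI := Fact.mk cf.prime
  rw [← BGUniq.card_fittingHallOf]
  by_contra hlt
  set H := fittingHallOf L with hH
  obtain ⟨UM, UM₀, UM₁, sM⟩ := exists_shape (h.data M cf.hM cf.hκM)
  obtain ⟨UL, UL₀, UL₁, sL⟩ := exists_shape (h.data L cf.hL cf.hκL)
  obtain ⟨z, hzM, hzo, hz⟩ := cf.fpf
  -- move `z` into `M ⊓ L`
  obtain ⟨n, hn, hnV⟩ := Coprime.exists_conj_le (fittingHallOf M) (zpowers z) (M ⊓ L)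
    ((zpowers_le.2 hzM).trans sM.normal) (inf_le_left.trans sM.normal)
    (zpowers_le.2 (by
      obtain ⟨a, ha, b, hb, rfl⟩ := cf.compl.2.2.2 z hzM
      exact mul_mem_sup ha hb))
    (by rw [Nat.card_zpowers, hzo]; exact cf.prime.coprime_iff_not_dvd.2 cf.not_dvd)
    (by
      rw [← BGSummary.card_eq_of_complIn cf.compl sM.normal]
      exact sM.coprime.symm)
    (Or.inl inferInstance)
  have hz'H : n * z * n⁻¹ ∈ H := cf.inf_le (hnV z (mem_zpowers z))
  have hzo' : orderOf (n * z * n⁻¹) = p := by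
    rw [← MulAut.conj_apply, (MulAut.conj n).orderOf_eq, hzo]
  obtain ⟨P⟩ := (inferInstance : Nonempty (Sylow p H))
  haveI : Group.IsNilpotent H := sL.nilpotent
  have hPn : (P : Subgroup H).Normal :=
    ((Group.isNilpotent_of_finite_tfae (G := H)).out 0 3 rfl rfl).1 inferInstance p ⟨cf.prime⟩ P
  have hmemP : ∀ u : H, orderOf (u : G) = p → u ∈ (P : Subgroup H) := by
    intro u hu
    obtain ⟨Q, hQ⟩ := (IsPGroup.of_card (p := p) (n := 1) (G := zpowers u)
      (by rw [Nat.card_zpowers, pow_one, ← Subgroup.orderOf_coe, hu]) :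
        IsPGroup p (zpowers u)).exists_le_sylow
    haveI := Sylow.unique_of_normal P hPn
    rw [Subsingleton.elim P Q]
    exact hQ (mem_zpowers u)
  have hPc : Nat.card (P : Subgroup H) = p := by
    obtain ⟨k, hk⟩ := P.2.exists_card_eq
    have hle : p ^ k < p ^ 2 := by
      rw [← hk]
      exact lt_of_le_of_lt (Nat.le_of_dvd Nat.card_pos (card_subgroup_dvd_card _)) (by omega)
    have hk2 := (Nat.pow_lt_pow_iff_right cf.prime.one_lt).1 hle
    rcases k with _ | k
    · have := (Subgroup.eq_bot_of_card_eq _ (by rw [hk, pow_zero])) ▸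
        hmemP ⟨x, cf.x_mem⟩ cf.x_order
      exact absurd (congrArg Subtype.val (mem_bot.1 this)) cf.x_ne
    · rw [hk, show k = 0 by omega, zero_add, pow_one]
  have hx : zpowers (⟨x, cf.x_mem⟩ : H) = (P : Subgroup H) :=
    Subgroup.eq_of_le_of_card_ge (zpowers_le.2 (hmemP _ cf.x_order))
      (by rw [hPc, Nat.card_zpowers, ← Subgroup.orderOf_coe, cf.x_order])
  obtain ⟨i, hi⟩ := mem_zpowers_iff.1 (hx.symm ▸ hmemP ⟨_, hz'H⟩ hzo' :
    (⟨n * z * n⁻¹, hz'H⟩ : H) ∈ zpowers (⟨x, cf.x_mem⟩ : H))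
  obtain ⟨y, hy, hy', hxy⟩ := cf.fixed
  have hc : Commute (n * z * n⁻¹) y := by
    rw [← show x ^ i = n * z * n⁻¹ from congrArg Subtype.val hi]
    exact (show Commute x y from hxy).zpow_left i
  have h1 := hz (n⁻¹ * y * n) (mul_mem (mul_mem (inv_mem hn) hy) hn)
    (calc z * (n⁻¹ * y * n) = n⁻¹ * ((n * z * n⁻¹) * y) * n := by group
      _ = n⁻¹ * (y * (n * z * n⁻¹)) * n := by rw [hc.eq]
      _ = n⁻¹ * y * n * z := by group)
  refine hy' ?_
  rw [show y = n * (n⁻¹ * y * n) * n⁻¹ by group, h1]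
  simp

end Config

namespace Setting

variable {τ₁ : (L → ℂ) → (G → ℂ)} {ζ : L → ℂ} (st : Setting M L p x τ₁ ζ)

include st

theorem sum_sq_L {a : ℤ} (ha : ∀ y : L, y ∈ fittingHall L → y ≠ 1 →
      PF7.rho (suppA L) L (supportR L) (τ₁ ζ) y = ζ y + a) :
    ∑ y : L, ‖PF7.rho (suppA L) L (supportR L) (τ₁ ζ) y‖ ^ 2 =
      (Nat.card L : ℝ) + (Nat.card (fittingHall L) : ℝ) * (a : ℝ) ^ 2 -
        (((fittingHall L).index : ℝ) ^ 2 + 2 * (a : ℝ) * (fittingHall L).index + (a : ℝ) ^ 2) := by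
  have Dk := st.kernel
  set K := fittingHall L
  set f := PF7.rho (suppA L) L (supportR L) (τ₁ ζ) with hf
  have hirr := Dk.mem_irr st.mem
  have hsq : ∀ y : L, ‖f y‖ ^ 2 = ‖ζ y‖ ^ 2 + 2 * (a : ℝ) * (ζ y).re +
      (if y ∈ K then (a : ℝ) ^ 2 else 0) -
      (if y = 1 then (K.index : ℝ) ^ 2 + 2 * (a : ℝ) * K.index + (a : ℝ) ^ 2 else 0) := by
    intro y
    by_cases hy : y ∈ K
    · by_cases hy1 : y = 1
      · subst hy1
        rw [hf, PF7.rho_of_notMem fun hA => ((Dk.setA 1).1 hA).2 rfl]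
        simp [show ζ 1 = (K.index : ℂ) from st.one]
      · rw [ha y hy hy1, ← Complex.normSq_eq_norm_sq, ← Complex.normSq_eq_norm_sq]
        simp [Complex.normSq_apply, hy, hy1]
        ring
    · have hy1 : y ≠ 1 := fun e => hy (e ▸ K.one_mem)
      rw [hf, PF7.rho_of_notMem fun hA => hy ((Dk.setA y).1 hA).1]
      simp [hy, hy1, Dk.mem_off st.mem hy]
  have hL : (Nat.card L : ℝ) ≠ 0 := Nat.cast_ne_zero.2 Nat.card_pos.ne'
  have s1 : ∑ y : L, ‖ζ y‖ ^ 2 = (Nat.card L : ℝ) := by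
    have h := Coherence.irr_inner_self hirr
    rw [Coherence.inner_self, Complex.ofReal_eq_one, Coherence.normSqFn,
      inv_mul_eq_iff_eq_mul₀ hL, mul_one] at h
    exact h
  have s2 : ∑ y : L, (ζ y).re = 0 := by
    have h := Dk.member_inner_one st.mem
    rw [CharCore.classInner_def, mul_eq_zero] at h
    have h' := congrArg Complex.re
      (h.resolve_left (inv_ne_zero (Nat.cast_ne_zero.2 Nat.card_pos.ne')))
    simpa using h'
  have s3 : ∑ y : L, (if y ∈ K then (a : ℝ) ^ 2 else 0) = (Nat.card K : ℝ) * (a : ℝ) ^ 2 := by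
    rw [← Finset.sum_filter, Finset.sum_const, nsmul_eq_mul, Nat.card_eq_fintype_card,
      ← Fintype.card_subtype]
  rw [Finset.sum_congr rfl fun y _ => hsq y, Finset.sum_sub_distrib,
    Finset.sum_add_distrib, Finset.sum_add_distrib, ← Finset.mul_sum, s1, s2, s3,
    Finset.sum_ite_eq' Finset.univ (1 : L), if_pos (Finset.mem_univ _)]
  ring

theorem sum_sq_M {D : ℤ} (hD : ∀ θ : IrrCharacter (fittingHall M), θ ∈ trivSet (derK M) →
    (θ : fittingHall M → ℂ) ≠ (fun _ => 1) →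
    classInner (fFun M (τ₁ ζ)) (indFun (fittingHall M) (fun _ : fittingHall M => (1 : ℂ))) -
      classInner (fFun M (τ₁ ζ)) (indFun (fittingHall M) (θ : fittingHall M → ℂ)) = (D : ℂ)) :
    ((Nat.card (fittingHall M) : ℝ) - Nat.card (derK M)) * (D : ℝ) ^ 2 ≤
      ∑ y : M, ‖PF7.rho ((fittingHallOf M : Set G) \ {1}) M (supportR M) (τ₁ ζ) y‖ ^ 2 := by
  set N := derK M with hN
  set f := fFun M (τ₁ ζ) with hf
  set S := (Finset.univ : Finset (fittingHall M)).filter fun k => k ∉ N with hS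
  have hcoset : ∀ k ∈ S, (Nat.card N : ℝ) * (D : ℝ) ^ 2 ≤
      ∑ h : N, ‖f ((k * h : fittingHall M) : M)‖ ^ 2 := by
    intro k hk
    have h1 := coset_sum_ind N (fun a b => by
      rw [hN, derK, commutator_def]
      exact commutator_mem_commutator (mem_top a) (mem_top b)) st.f_class (D : ℂ) hD
      (Finset.mem_filter.1 hk).2
    have h2 := norm_sum_le (Finset.univ : Finset N) fun h => f ((k * h : fittingHall M) : M)
    rw [h1, norm_mul, Complex.norm_natCast, Complex.norm_intCast] at h2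
    have h3 := sq_sum_le_card_mul_sum_sq (s := (Finset.univ : Finset N))
      (f := fun h => ‖f ((k * h : fittingHall M) : M)‖)
    rw [Finset.card_univ, ← Nat.card_eq_fintype_card] at h3
    have h4 := (pow_le_pow_left₀ (by positivity) h2 2).trans h3
    rw [mul_pow, sq_abs, sq, mul_assoc] at h4
    exact le_of_mul_le_mul_left h4 (Nat.cast_pos.2 Nat.card_pos)
  have hswap : ∑ k ∈ S, ∑ h : N, ‖f ((k * h : fittingHall M) : M)‖ ^ 2 =
      (Nat.card N : ℝ) * ∑ k ∈ S, ‖f (k : M)‖ ^ 2 := by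
    rw [Finset.sum_comm, Nat.card_eq_fintype_card, ← Finset.card_univ, ← nsmul_eq_mul,
      ← Finset.sum_const]
    refine Finset.sum_congr rfl fun h _ => ?_
    refine Finset.sum_equiv (Equiv.mulRight (h : fittingHall M)) (fun k => ?_) fun k _ => rfl
    simp only [hS, Finset.mem_filter, Finset.mem_univ, true_and, Equiv.coe_mulRight]
    exact not_congr (N.mul_mem_cancel_right h.2).symm
  have hcard : (S.card : ℝ) = (Nat.card (fittingHall M) : ℝ) - Nat.card N := by
    rw [eq_sub_iff_add_eq, hS, Nat.card_eq_fintype_card (α := N),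
      Fintype.card_subtype (fun k => k ∈ N), Nat.card_eq_fintype_card, ← Finset.card_univ,
      ← Nat.cast_add, Nat.cast_inj, add_comm]
    exact Finset.card_filter_add_card_filter_not (fun k => k ∈ N)
  have hmain : (S.card : ℝ) * (D : ℝ) ^ 2 ≤ ∑ k ∈ S, ‖f (k : M)‖ ^ 2 := by
    refine le_of_mul_le_mul_left ?_ (Nat.cast_pos.2 (Nat.card_pos (α := N)) : (0 : ℝ) < _)
    rw [← hswap]
    refine le_trans (le_of_eq ?_) (Finset.sum_le_sum hcoset)
    rw [Finset.sum_const, nsmul_eq_mul]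
    ring
  rw [← hcard]
  refine hmain.trans (le_trans (le_of_eq ?_)
    (Finset.sum_le_sum_of_subset_of_nonneg (Finset.subset_univ (S.map
      ⟨fun k : fittingHall M => (k : M), Subtype.val_injective⟩)) fun _ _ _ => sq_nonneg _))
  rw [Finset.sum_map]
  refine Finset.sum_congr rfl fun k hk => ?_
  have hkK := (coe_mem_fittingHallOf (k : M)).2 k.2
  have hk1 : ((k : M) : G) ≠ 1 := fun e => (Finset.mem_filter.1 hk).2 (by
    rw [show k = 1 from Subtype.ext (Subtype.ext e)]; exact N.one_mem)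
  simp only [Function.Embedding.coeFn_mk]
  rw [hf, fFun, PF7.rho_of_mem (a := (k : M)) (Config.mem_suppA_of_mem hkK hk1),
    PF7.rho_of_mem (a := (k : M)) (show ((k : M) : G) ∈ (fittingHallOf M : Set G) \ {1} from
      ⟨hkK, hk1⟩)]

theorem mass {a : ℤ} (ha : ∀ y : L, y ∈ fittingHall L → y ≠ 1 →
      PF7.rho (suppA L) L (supportR L) (τ₁ ζ) y = ζ y + a)
    {D : ℤ} (hD : ∀ θ : IrrCharacter (fittingHall M), θ ∈ trivSet (derK M) →
    (θ : fittingHall M → ℂ) ≠ (fun _ => 1) →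
    classInner (fFun M (τ₁ ζ)) (indFun (fittingHall M) (fun _ : fittingHall M => (1 : ℂ))) -
      classInner (fFun M (τ₁ ζ)) (indFun (fittingHall M) (θ : fittingHall M → ℂ)) = (D : ℂ)) :
    a = 0 ∧ (((derK M).index : ℤ) - 1) * D ^ 2 ≤ (fittingHall L).index * (derK M).index := by
  set K := fittingHall M with hK
  set A' : Set G := (fittingHallOf M : Set G) \ {1} with hA'
  obtain ⟨UM, UM₀, UM₁, sM⟩ := exists_shape (st.inputs.data M st.config.hM st.config.hκM)
  have hD' : DadeHypothesis A' M (supportR M) :=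
    dade_restrict st.dadeM (fun g hg => Config.mem_suppA_of_mem hg.1 hg.2) fun g hg b hb =>
      ⟨(mem_normalizer_iff.1 (sM.normal hg) b).1 hb.1, fun e => hb.2 (conj_eq_one_iff.1 e)⟩
  have h1 := PF7.rho_norm_le st.kernel.dade st.psi_class
  have h2 := PF7.rho_norm_le hD' st.psi_class
  have hψ : Coherence.normSqFn (τ₁ ζ) = 1 := by
    have h := st.kernel.tau_inner st.mem st.mem
    rwa [if_pos rfl, Coherence.inner_self, Complex.ofReal_eq_one] at h
  set FL := Finset.univ.filter (· ∈ Coherence.dadeSupp (suppA L) (supportR L))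
  set FM := Finset.univ.filter (· ∈ Coherence.dadeSupp A' (supportR M))
  have h3 : Coherence.normSqFn (PF7.rho (suppA L) L (supportR L) (τ₁ ζ)) +
      Coherence.normSqFn (PF7.rho A' M (supportR M) (τ₁ ζ)) ≤ 1 := by
    refine (add_le_add h1 h2).trans ?_
    rw [← hψ, ← mul_add, Coherence.normSqFn, ← Finset.sum_union (Finset.disjoint_left.2
      fun g hg hg' => Set.disjoint_left.1 (st.config.supp_disjoint st.inputs)
        (Finset.mem_filter.1 hg').2 (Finset.mem_filter.1 hg).2)]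
    exact mul_le_mul_of_nonneg_left (Finset.sum_le_sum_of_subset_of_nonneg
      (Finset.subset_univ _) fun _ _ _ => sq_nonneg _) (by positivity)
  rw [Coherence.normSqFn, Coherence.normSqFn, st.sum_sq_L ha] at h3
  have h4 := st.sum_sq_M hD
  set e := (fittingHall L).index with he
  set n := (derK M).index with hn
  set h := Nat.card (fittingHall L) with hh
  set v := Nat.card (M ⊓ L : Subgroup G) with hv
  have hL : (Nat.card L : ℝ) = (e : ℝ) * h := by
    rw [← Nat.cast_mul, he, hh, Subgroup.index_mul_card]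
  have hKc : (Nat.card K : ℝ) = (n : ℝ) * Nat.card (derK M) := by
    rw [← Nat.cast_mul, hn, hK, Subgroup.index_mul_card]
  have hMc : (Nat.card M : ℝ) = (n : ℝ) * Nat.card (derK M) * v := by
    rw [← hKc, ← Nat.cast_mul, hv, ← BGSummary.card_eq_of_complIn st.config.compl sM.normal,
      hK, ← BGUniq.card_fittingHallOf, mul_comm, Subgroup.relIndex, Nat.card_congr
        (Subgroup.subgroupOfEquivOfLe sM.le).symm.toEquiv, Subgroup.index_mul_card]
  have hvh : (v : ℝ) ≤ h := by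
    rw [hh, ← BGUniq.card_fittingHallOf]
    exact_mod_cast Nat.le_of_dvd Nat.card_pos (card_dvd_of_le st.config.inf_le)
  have e0 : (0 : ℝ) < e := by
    have := st.config.three_le_e; rw [← he] at this; exact_mod_cast (by omega : 0 < e)
  have v0 : (0 : ℝ) < v := Nat.cast_pos.2 Nat.card_pos
  have c0 : (0 : ℝ) < Nat.card (derK M) := Nat.cast_pos.2 Nat.card_pos
  have n0 : (0 : ℝ) < n := Nat.cast_pos.2 (Nat.pos_of_ne_zero Subgroup.index_ne_zero_of_finite)
  have hh0 : (0 : ℝ) < h := Nat.cast_pos.2 Nat.card_pos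
  have n1 : (1 : ℝ) ≤ n := by
    exact_mod_cast Nat.pos_of_ne_zero (Subgroup.index_ne_zero_of_finite (H := derK M))
  rw [hL, hMc] at h3
  rw [hKc] at h4
  set Sd := ∑ y : M, ‖PF7.rho A' M (supportR M) (τ₁ ζ) y‖ ^ 2
  have h5 : ((n : ℝ) - 1) * (D : ℝ) ^ 2 / ((n : ℝ) * h) ≤
      ((n : ℝ) * Nat.card (derK M) * v)⁻¹ * Sd := by
    calc ((n : ℝ) - 1) * (D : ℝ) ^ 2 / ((n : ℝ) * h)
        ≤ ((n : ℝ) - 1) * (D : ℝ) ^ 2 / ((n : ℝ) * v) :=
          div_le_div_of_nonneg_left (mul_nonneg (by linarith) (sq_nonneg _)) (mul_pos n0 v0)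
            (mul_le_mul_of_nonneg_left hvh n0.le)
      _ = ((n : ℝ) * Nat.card (derK M) * v)⁻¹ *
            (((n : ℝ) * Nat.card (derK M) - Nat.card (derK M)) * (D : ℝ) ^ 2) := by
          field_simp
      _ ≤ _ := mul_le_mul_of_nonneg_left h4 (by positivity)
  have hid : ((e : ℝ) * h) * n *
      (((e : ℝ) * h)⁻¹ * ((e : ℝ) * h + (h : ℝ) * (a : ℝ) ^ 2 -
        ((e : ℝ) ^ 2 + 2 * (a : ℝ) * e + (a : ℝ) ^ 2)) +
        ((n : ℝ) - 1) * (D : ℝ) ^ 2 / ((n : ℝ) * h) - 1) =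
      (n : ℝ) * (((h : ℝ) - 1) * (a : ℝ) ^ 2 - 2 * a * e - (e : ℝ) ^ 2) +
        (e : ℝ) * ((n : ℝ) - 1) * (D : ℝ) ^ 2 := by
    field_simp
    ring
  have hineq : (n : ℤ) * (((h : ℤ) - 1) * a ^ 2 - 2 * a * e - (e : ℤ) ^ 2) +
      (e : ℤ) * ((n : ℤ) - 1) * D ^ 2 ≤ 0 := by
    have : (n : ℝ) * (((h : ℝ) - 1) * (a : ℝ) ^ 2 - 2 * a * e - (e : ℝ) ^ 2) +
        (e : ℝ) * ((n : ℝ) - 1) * (D : ℝ) ^ 2 ≤ 0 := by
      rw [← hid]
      exact mul_nonpos_iff.2 (Or.inl ⟨by positivity, by linarith⟩)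
    exact_mod_cast this
  have hp2 : p ^ 2 ≤ h := st.config.sq_le_card st.inputs
  have he3 := st.config.three_le_e
  have he2 := st.config.two_e_le
  rw [← he] at he3 he2
  have hsq : (2 * e - 1) ^ 2 ≤ h := le_trans (Nat.pow_le_pow_left (by omega) 2) hp2
  have hsq' : (2 * (e : ℤ) - 1) ^ 2 ≤ h := by
    have h2' : ((2 * e - 1 : ℕ) : ℤ) = 2 * (e : ℤ) - 1 := by omega
    rw [← h2']
    exact_mod_cast hsq
  have he3' : (3 : ℤ) ≤ e := by exact_mod_cast he3
  have hn1 : (1 : ℤ) ≤ n := by exact_mod_cast n1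
  have hD0 : 0 ≤ (e : ℤ) * ((n : ℤ) - 1) * D ^ 2 :=
    mul_nonneg (mul_nonneg (by omega) (by omega)) (sq_nonneg D)
  have ha0 : a = 0 := by
    by_contra hne
    have hA1 : 1 ≤ a ^ 2 := Int.add_one_le_iff.2 (by positivity : (0 : ℤ) < a ^ 2)
    have hA : a ≤ a ^ 2 := Int.le_self_sq a
    have h6 : ((h : ℤ) - 1) * a ^ 2 - 2 * a * e - (e : ℤ) ^ 2 ≤ 0 := by
      by_contra hpos
      push Not at hpos
      nlinarith [mul_pos (by omega : (0 : ℤ) < n) hpos]
    have h7 : (0 : ℤ) ≤ (h : ℤ) - 1 - 2 * e := by nlinarith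
    nlinarith [mul_le_mul_of_nonneg_left hA1 h7,
      mul_le_mul_of_nonneg_left hA (by omega : (0 : ℤ) ≤ 2 * e)]
  refine ⟨ha0, ?_⟩
  subst ha0
  refine le_of_mul_le_mul_left ?_ (by omega : (0 : ℤ) < e)
  linear_combination hineq

end Setting

end Cfsg.Agent.PF12
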