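import Cfsg.Agent.PF14.GlueKernel
import Cfsg.Agent.PF7.Cover

/-!
Peterfalvi (12.17): some maximal subgroup has `κ ≠ ∅`.
-/

set_option autoImplicit false

namespace Cfsg.Agent.PF12

open Cfsg Subgroup

universe u

variable {G : Type u} [Group G] [Finite G]

/-- If every maximal subgroup has `κ = ∅`, the hypotheses on the other types are empty. -/
theorem earlier_of_kappa_empty (hG : IsMinSimpleOddOrder G) (hfr : BGSummary.FrobeniusOne G)
    (hall : ∀ M : Subgroup G, IsCoatom M → kappa M = ∅) : PF14.Earlier G := by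
  have hno : ∀ M W₁ U W₂ : Subgroup G, IsCoatom M → IsTypePWith M W₁ U W₂ → False :=
    fun M W₁ U W₂ hM hP => (FT.kappa_nonempty hG hM hP).ne_empty (hall M hM)
  exact ⟨fun M W₁ U W₂ hM hP _ => (hno M W₁ U W₂ hM hP).elim,
    fun M hM hV => by
      obtain ⟨W₁, U, W₂, hP, -⟩ := hV
      exact hno M W₁ U W₂ hM hP,
    hfr, fun S W₁ U W₂ hS hP _ => (hno S W₁ U W₂ hS hP).elim⟩

/-- (12.17), from (12.7). -/
theorem exists_kappa_nonempty (hG : IsMinSimpleOddOrder G) (hfr : BGSummary.FrobeniusOne G) :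
    ∃ M : Subgroup G, IsCoatom M ∧ (kappa M).Nonempty := by
  classical
  haveI := Fintype.ofFinite G
  by_contra hno
  have hall : ∀ M : Subgroup G, IsCoatom M → kappa M = ∅ := fun M hM =>
    Set.not_nonempty_iff_eq_empty.mp fun h0 => hno ⟨M, hM, h0⟩
  have h := earlier_of_kappa_empty hG hfr hall
  have hs := PF8.summaryInputs hG
  have hI : ∀ M : Subgroup G, IsCoatom M → IsOfTypeI M := fun M hM => by
    obtain ⟨K, X, hKX⟩ := BGSummary.exists_decomp hs hM
    exact (BGSummary.typeI_iff hs hG (h.criterion hG) hM hKX).mpr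
      ((BGSummary.eq_bot_iff_kappa hKX.hall).mpr (hall M hM))
  obtain ⟨R, hR⟩ := FT.exists_isReps (G := G)
  haveI hne : Nonempty {M // M ∈ R} := by
    haveI := hG.2.1
    have hbt : (⊥ : Subgroup G) ≠ ⊤ := bot_ne_top
    obtain ⟨M, hM, -⟩ := BGSigma.exists_coatom_ge hG hbt
    obtain ⟨N, hN, -⟩ := hR.cover M hM
    exact ⟨⟨N, hN⟩⟩
  have hco : ∀ i : {M // M ∈ R}, IsCoatom i.1 := fun i => hR.coatom i.1 i.2
  have hnc : ∀ i j : {M // M ∈ R}, i ≠ j → ∀ g : G, j.1 ≠ i.1.map (MulAut.conj g).toMonoidHom :=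
    fun i j hij => hR.distinct i.1 i.2 j.1 j.2 fun e => hij (Subtype.ext e)
  letI : ∀ i : {M // M ∈ R}, Fintype ↥(i.1) := fun i => Fintype.ofFinite _
  choose τ D using fun i : {M // M ∈ R} => h.kernelData hG (hco i) (hI i.1 (hco i))
  refine PF7.not_cover hG.1 (fun i : {M // M ∈ R} => typeA i.1) (fun i => i.1)
    (fun i => supportR i.1) (fun i => fittingHall i.1) τ D
    (fun i j hij => h.dadeSupp_disjoint hG (hco i) (hI _ (hco i)) (hco j) (hI _ (hco j))
      (hnc i j hij)) (fun i j hij he => ?_) (fun g hg => ?_)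
  · have hcard : ∀ k : {M // M ∈ R}, Nat.card (sigmaCore k.1) = Nat.card (fittingHall k.1) :=
      fun k => by
        rw [PF14.sigmaCore_of_typeI hG (hco k) (hI _ (hco k)), BGUniq.card_fittingHallOf]
    have h1 : Nat.card (fittingHall i.1) ≠ 1 := fun e =>
      (D i).ne_bot (Subgroup.eq_bot_of_card_eq _ e)
    obtain ⟨p, hp, hpd⟩ := Nat.exists_prime_and_dvd h1
    refine PF8.sigma_disjoint_of hG hs (hco i) (hco j) (fun c e => hnc j i hij.symm c e.symm)
      (p := p) (BGSigma.isPiSub_sigmaCore i.1 p hp ?_) (BGSigma.isPiSub_sigmaCore j.1 p hp ?_)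
    · rwa [hcard]
    · rwa [hcard, ← he]
  · obtain ⟨M, hM, hgM⟩ := (BGSigma.partition_stmt hG).2.1 hall g hg
    obtain ⟨N, hN, c, rfl⟩ := hR.cover M hM
    change g ∈ FT.tilde _ at hgM
    rw [FT.tilde_map_conj hG (hR.coatom N hN) c] at hgM
    refine ⟨⟨N, hN⟩, ?_⟩
    rwa [h.dadeSupp_eq hG (hR.coatom N hN) (hI N (hR.coatom N hN))]

end Cfsg.Agent.PF12
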