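import Cfsg.Agent.PF12.Setup
import Cfsg.Agent.Coherence.Subcoherent
import Cfsg.Agent.S1514

/-!
# Peterfalvi (12.7): `τ₁ ζ` is orthogonal to the images from `M`
-/

set_option autoImplicit false
set_option linter.style.haveILetI false
set_option linter.unusedSectionVars false

namespace Cfsg.Agent.PF12

open Cfsg Subgroup
open scoped Classical ComplexConjugate

variable {G : Type*} [Group G]

theorem dade_add (A : Set G) (L : Subgroup G) (R : G → Subgroup G) (α β : L → ℂ) :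
    dadeIsometry A L R (α + β) = dadeIsometry A L R α + dadeIsometry A L R β := by
  funext g
  simp only [dadeIsometry, Pi.add_apply]
  split_ifs <;> simp

theorem dade_sub (A : Set G) (L : Subgroup G) (R : G → Subgroup G) (α β : L → ℂ) :
    dadeIsometry A L R (α - β) = dadeIsometry A L R α - dadeIsometry A L R β := by
  funext g
  simp only [dadeIsometry, Pi.sub_apply]
  split_ifs <;> simp

theorem dade_sum (A : Set G) (L : Subgroup G) (R : G → Subgroup G) {ι : Type*} (s : Finset ι)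
    (f : ι → L → ℂ) :
    dadeIsometry A L R (∑ i ∈ s, f i) = ∑ i ∈ s, dadeIsometry A L R (f i) := by
  funext g
  simp only [dadeIsometry, Finset.sum_apply]
  split_ifs <;> simp

variable [Fintype G]
variable {M L : Subgroup G} [Fintype M] [Fintype L] {p : ℕ} {x : G}

/-- The irreducible characters of `M` not trivial on `M_F`. -/
def calI (M : Subgroup G) [Fintype M] : Set (M → ℂ) :=
  {χ | ∃ i : IrrCharacter M, i ∉ trivSet (fittingHall M) ∧ χ = i}

/-- The constituents of a function. -/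
noncomputable def consOf (Φ : M → ℂ) : Finset (IrrCharacter M) :=
  Finset.univ.filter fun i => classInner Φ (i : M → ℂ) ≠ 0

/-- The standing objects. -/
structure Setting (M L : Subgroup G) [Fintype M] [Fintype L] (p : ℕ) (x : G)
    (τ₁ : (L → ℂ) → (G → ℂ)) (ζ : L → ℂ) : Prop where
  inputs : Inputs G
  config : Config M L p x
  kernel : PF7.KernelData (suppA L) L (supportR L) (fittingHall L) τ₁
  mem : ζ ∈ inducedIrrAbove (fittingHall L) ⊥
  one : ζ 1 = ((fittingHall L).index : ℂ)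

theorem exists_setting (cf : Config M L p x) (h : Inputs G) :
    ∃ τ₁ ζ, Setting M L p x τ₁ ζ := by
  obtain ⟨τ₁, D⟩ := cf.exists_kernelData h
  obtain ⟨ζ, hζ, h1⟩ := D.exists_min
  exact ⟨τ₁, ζ, h, cf, D, hζ, h1⟩

namespace Setting

variable {τ₁ : (L → ℂ) → (G → ℂ)} {ζ : L → ℂ} (st : Setting M L p x τ₁ ζ)

include st

theorem dadeM : DadeHypothesis (suppA M) M (supportR M) :=
  st.inputs.dade M st.config.hM st.config.hκM

theorem fix : AbelianFix (fittingHall M) :=
  abelianFix st.inputs.minSimple.1 (st.inputs.data M st.config.hM st.config.hκM)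

theorem psi_class : IsClassFunction G (τ₁ ζ) :=
  PFTypeOne.gen_isClassFunction (st.kernel.gen st.mem)

theorem calI_iso :
    IsLinearIsometryOn (zspanOn (calI M) {1}ᶜ) (dadeIsometry (suppA M) M (supportR M)) ∧
      (∀ α ∈ zspanOn (calI M) ({1}ᶜ : Set M), dadeIsometry (suppA M) M (supportR M) α 1 = 0) ∧
      ∀ α ∈ zspanOn (calI M) ({1}ᶜ : Set M),
        IsClassFunction M α ∧ ∀ y : M, (y : G) ∉ suppA M → α y = 0 :=
  PFTypeOne.dade_isometryOn st.dadeM (calI M)
    (fun φ ⟨i, _, e⟩ => e ▸ Coherence.irr_gen i.2)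
    fun φ ⟨i, hi, e⟩ y hy1 hy => e ▸ Config.apply_eq_zero hi hy1 hy

theorem sub_mem {i j : IrrCharacter M} (hi : i ∉ trivSet (fittingHall M))
    (hj : j ∉ trivSet (fittingHall M)) (hd : (i : M → ℂ) 1 = (j : M → ℂ) 1) :
    (i : M → ℂ) - j ∈ zspanOn (calI M) ({1}ᶜ : Set M) :=
  Coherence.mem_zspanOn_one.2 ⟨Coherence.zspan_sub (Coherence.zspan_subset ⟨i, hi, rfl⟩)
    (Coherence.zspan_subset ⟨j, hj, rfl⟩), by simp [hd]⟩

theorem exists_notMem_triv : ∃ i : IrrCharacter M, i ∉ trivSet (fittingHall M) := by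
  by_contra hall
  push Not at hall
  obtain ⟨-, -, hK1, -, -⟩ := (st.inputs.data M st.config.hM st.config.hκM).typeF
  obtain ⟨⟨k, hkK⟩, hk1⟩ := (Subgroup.ne_bot_iff_exists_ne_one (H := fittingHall M)).1 hK1
  have h0 := CharCore.sum_degree_mul_apply (G := M) k
  rw [if_neg (fun e : k = 1 => hk1 (Subtype.ext e)),
    Finset.sum_congr rfl fun i _ => by rw [(mem_trivSet _).1 (hall i) k hkK]] at h0
  have h1 := CharCore.sum_degree_mul_apply (G := M) 1
  rw [if_pos rfl, h0] at h1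
  exact Nat.cast_ne_zero.2 Nat.card_pos.ne' h1.symm

theorem exists_system :
    ∃ R, IsCoherenceSystem (calI M) (dadeIsometry (suppA M) M (supportR M)) R := by
  obtain ⟨hiso, hone, -⟩ := st.calI_iso
  obtain ⟨i₀, hi₀⟩ := st.exists_notMem_triv
  refine S1514.result (calI M) ⟨_, i₀, hi₀, rfl⟩ (fun χ ⟨i, _, e⟩ => e ▸ i.2) ?_ _ hiso hone
  rintro χ ⟨i, hi, rfl⟩
  exact ⟨⟨conjI i, conjI_mem hi, rfl⟩, fun e => conjI_ne st.fix.odd hi (Subtype.ext e)⟩

variable {R : (M → ℂ) → Finset (G → ℂ)}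
  (hR : IsCoherenceSystem (calI M) (dadeIsometry (suppA M) M (supportR M)) R)

include hR

theorem psi_orth {i : IrrCharacter M} (hi : i ∉ trivSet (fittingHall M)) {α : G → ℂ}
    (hα : α ∈ R (i : M → ℂ)) : classInner (τ₁ ζ) α = 0 := by
  have hiS : (i : M → ℂ) ∈ calI M := ⟨i, hi, rfl⟩
  by_contra hne
  set ψ := τ₁ ζ with hψ
  have hζc := Coherence.seq_conj (fittingHall L) st.mem
  set ψ' := τ₁ (conjFun ζ) with hψ'
  have hsα : IsIrrCharacter G α ∨ IsIrrCharacter G (-α) :=
    Coherence.gen_norm_one (hR.virtual _ hiS α hα) (by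
      rw [hR.orthonormal _ hiS α hα α hα, if_pos rfl])
  have signed_eq : ∀ {a b : G → ℂ}, (IsIrrCharacter G a ∨ IsIrrCharacter G (-a)) →
      (IsIrrCharacter G b ∨ IsIrrCharacter G (-b)) → classInner a b ≠ 0 →
      ∃ s : ℤ, (s = 1 ∨ s = -1) ∧ b = s • a := by
    intro a b ha hb hab
    rcases ha with ha | ha <;> rcases hb with hb | hb
    · refine ⟨1, Or.inl rfl, ?_⟩
      by_contra e
      exact hab (Coherence.irr_inner_ne ha hb fun e' => e (by simp [e']))
    · refine ⟨-1, Or.inr rfl, ?_⟩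
      by_contra e
      refine hab ?_
      have := Coherence.irr_inner_ne ha hb fun e' => e (by simp [e'])
      simpa [Coherence.inner_neg_right] using this
    · refine ⟨-1, Or.inr rfl, ?_⟩
      by_contra e
      refine hab ?_
      have := Coherence.irr_inner_ne ha hb fun e' => e (by simp [← e'])
      simpa [Coherence.inner_neg_left] using this
    · refine ⟨1, Or.inl rfl, ?_⟩
      by_contra e
      refine hab ?_
      have := Coherence.irr_inner_ne ha hb fun e' => e (by simpa using e'.symm)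
      simpa [Coherence.inner_neg_left, Coherence.inner_neg_right] using this
  obtain ⟨s, hs, hαψ⟩ := signed_eq (st.kernel.signed st.mem) hsα hne
  set τM := dadeIsometry (suppA M) M (supportR M) with hτM
  have hmem := st.sub_mem hi (conjI_mem hi)
    (Coherence.conjFun_one_of_char (Coherence.irr_isCharacter i.2)).symm
  have hnorm : classInner (τM ((i : M → ℂ) - conjI i)) (τM ((i : M → ℂ) - conjI i)) = 2 := by
    rw [st.calI_iso.1.2.2.1 _ hmem _ hmem]
    have hne' : (i : M → ℂ) ≠ conjI i := fun e => conjI_ne st.fix.odd hi (Subtype.ext e.symm)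
    simp only [Coherence.inner_sub_left, Coherence.inner_sub_right,
      Coherence.irr_inner_self i.2, Coherence.irr_inner_self (conjI i).2,
      Coherence.irr_inner_ne i.2 (conjI i).2 hne',
      Coherence.irr_inner_ne (conjI i).2 i.2 hne'.symm]
    norm_num
  set ξ := τM ((i : M → ℂ) - conjI i) with hξ
  have hsum : ξ = ∑ β ∈ R (i : M → ℂ), β := hR.sum_eq _ hiS
  have hcard : (R (i : M → ℂ)).card = 2 := by
    have h1 : classInner ξ ξ = ((R (i : M → ℂ)).card : ℂ) := by
      rw [hsum, Coherence.inner_sum_left, Finset.sum_congr rfl (g := fun _ => (1 : ℂ))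
        fun β hβ => ?_, Finset.sum_const, nsmul_one]
      rw [Coherence.inner_sum_right, Finset.sum_congr rfl fun γ hγ =>
        hR.orthonormal _ hiS β hβ γ hγ, Finset.sum_ite_eq, if_pos hβ]
    rw [h1] at hnorm
    exact_mod_cast hnorm
  obtain ⟨β, hβ⟩ : ∃ β, (R (i : M → ℂ)).erase α = {β} :=
    Finset.card_eq_one.1 (by rw [Finset.card_erase_of_mem hα, hcard])
  obtain ⟨hβne, hβR⟩ := Finset.mem_erase.1 (hβ ▸ Finset.mem_singleton_self β)
  have hξe : ξ = α + β := by
    rw [hsum, ← Finset.add_sum_erase _ _ hα, hβ, Finset.sum_singleton]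
  have hψψ : classInner ψ ψ = 1 := by rw [hψ, st.kernel.tau_inner st.mem st.mem, if_pos rfl]
  have hψψ' : classInner ψ' ψ = 0 := by
    rw [hψ, hψ', st.kernel.tau_inner hζc st.mem, if_neg (st.kernel.conj_ne st.mem)]
  have hψβ : classInner ψ β = 0 := by
    have h0 := hR.orthonormal _ hiS α hα β hβR
    rw [if_neg (Ne.symm hβne), hαψ, Coherence.inner_zsmul_left] at h0
    rcases hs with rfl | rfl <;> simpa using h0
  have hψξ : classInner ψ ξ = (s : ℂ) := by
    rw [hξe, Coherence.inner_add_right, hψβ, hαψ, Coherence.inner_zsmul_right, hψψ, mul_one,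
      add_zero]
  have hξc : conjFun ξ = -ξ := by
    rw [hξ, hτM, PF7.conjFun_dade, ← zero_sub (dadeIsometry _ _ _ _), eq_sub_iff_add_eq,
      ← dade_add]
    funext g
    simp [dadeIsometry, conjI, conjFun]
  have hψ'ξ : classInner ψ' ξ = -(s : ℂ) := by
    rw [hψ', ← st.kernel.tau_conj st.mem, ← hψ,
      show ξ = conjFun (-ξ) by rw [← hξc, Coherence.conjFun_conjFun],
      PF7.inner_conjFun', Coherence.inner_neg_right, hψξ]
    simp
  have hψ'β : classInner ψ' β = -(s : ℂ) := by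
    rw [← hψ'ξ, hξe, Coherence.inner_add_right, hαψ, Coherence.inner_zsmul_right, hψψ', mul_zero,
      zero_add]
  have hsne : (s : ℂ) ≠ 0 := by rcases hs with rfl | rfl <;> simp
  obtain ⟨t, -, hβψ⟩ := signed_eq (st.kernel.signed hζc)
    (Coherence.gen_norm_one (hR.virtual _ hiS β hβR)
      (by rw [hR.orthonormal _ hiS β hβR β hβR, if_pos rfl]))
    (by rw [← hψ', hψ'β]; exact neg_ne_zero.2 hsne)
  rw [← hψ'] at hβψ
  have hts : t = -s := by
    rw [hβψ, Coherence.inner_zsmul_right, hψ', st.kernel.tau_inner hζc hζc, if_pos rfl, mul_one]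
      at hψ'β
    exact_mod_cast hψ'β
  have hdiff : ψ - ψ' = dadeIsometry (suppA L) L (supportR L) (ζ - conjFun ζ) := by
    rw [← st.kernel.agree _ (st.kernel.conj_sub_mem st.mem),
      Coherence.iso_map_sub st.kernel.iso (Coherence.zspan_subset st.mem)
        (Coherence.zspan_subset hζc) (Coherence.zspan_neg (Coherence.zspan_subset hζc))]
  have hξL : ξ = s • dadeIsometry (suppA L) L (supportR L) (ζ - conjFun ζ) := by
    rw [← hdiff, hξe, hαψ, hβψ, hts, neg_smul, smul_sub, sub_eq_add_neg]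
  -- so `i` is real on `M_F`
  have hval : ∀ k : fittingHall M, (i : M → ℂ) k = (conjI i : M → ℂ) k := by
    intro k
    by_cases hk : (k : M) = 1
    · rw [hk]
      exact (Coherence.conjFun_one_of_char (Coherence.irr_isCharacter i.2)).symm
    · have hkK := (coe_mem_fittingHallOf (k : M)).2 k.2
      have hk1 : ((k : M) : G) ≠ 1 := fun e => hk (Subtype.ext e)
      have hA : ((k : M) : G) ∈ suppA M := Config.mem_suppA_of_mem hkK hk1
      have h0 : ξ ((k : M) : G) = 0 := by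
        rw [hξL, Pi.smul_apply,
          OddChar.dadeIsometry_notMem _ st.kernel.dade (st.config.notMem_supp_L st.inputs hkK hk1),
          smul_zero]
      rw [hξ, hτM, OddChar.dadeIsometry_apply st.dadeM (st.calI_iso.2.2 _ hmem).1 (a := (k : M))
        (u := 1) (x := 1) hA (one_mem _) (by group)] at h0
      exact sub_eq_zero.1 h0
  obtain ⟨θ, hθ, hθi⟩ : ∃ θ : IrrCharacter (fittingHall M),
      (θ : fittingHall M → ℂ) ≠ (fun _ => 1) ∧ i ∈ cons (fittingHall M) (θ : fittingHall M → ℂ) := by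
    by_contra hall
    push Not at hall
    have hexp := congrFun (CharCore.IsCharacter.eq_sum_classInner
      (CharCore.isCharacter_restrict (Coherence.irr_isCharacter i.2) (fittingHall M))) 1
    simp only [Finset.sum_apply, Pi.smul_apply, smul_eq_mul, OneMemClass.coe_one] at hexp
    refine CharCore.irr_apply_one_ne_zero i (hexp.trans (Finset.sum_eq_zero fun θ _ => ?_))
    by_cases hne' : (θ : fittingHall M → ℂ) = fun _ => 1
    · rw [hne', inner_restrict_one hi, zero_mul]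
    · rw [st.fix.inner_restrict hne', if_neg (hall θ hne'), zero_mul]
  have hi' : conjI i ∈ cons (fittingHall M) (θ : fittingHall M → ℂ) := by
    by_contra hcon
    have h1 := st.fix.inner_restrict hθ i
    rw [if_pos hθi, funext hval, st.fix.inner_restrict hθ, if_neg hcon] at h1
    exact zero_ne_one h1
  have hθc : (conjI θ : fittingHall M → ℂ) ≠ fun _ => 1 := fun e => hθ (by
    funext k
    have := congrArg (starRingEnd ℂ) (congrFun e k)
    simpa [conjI, conjFun] using this)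
  refine st.fix.conj_ind_ne hθ ?_
  rw [Coherence.conjFun_indFun]
  refine st.fix.ind_eq_of_common hθc hθ (i := conjI i) (Finset.mem_filter.2
    ⟨Finset.mem_univ _, ?_⟩) hi'
  have h2 := (Finset.mem_filter.1 hθi).2
  show classInner (indFun _ (conjFun (θ : fittingHall M → ℂ))) (conjFun (i : M → ℂ)) ≠ 0
  rw [← Coherence.conjFun_indFun, PF7.inner_conjFun']
  exact (map_ne_zero _).2 h2

theorem psi_orth_proj {χ : M → ℂ} {R' : (M → ℂ) → Finset (G → ℂ)}
    (h : ∀ α ∈ R' χ, classInner (τ₁ ζ) α = 0) (ξ : G → ℂ) :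
    classInner (τ₁ ζ) (Coherence.proj (R' χ) ξ) = 0 := by
  rw [← Coherence.inner_conj_symm, Coherence.inner_proj_of_orth, map_zero]
  intro α hα
  rw [← Coherence.inner_conj_symm, h α hα, map_zero]

theorem inner_tau_sub {i j : IrrCharacter M} (hi : i ∉ trivSet (fittingHall M))
    (hj : j ∉ trivSet (fittingHall M)) (hd : (i : M → ℂ) 1 = (j : M → ℂ) 1) :
    classInner (τ₁ ζ) (dadeIsometry (suppA M) M (supportR M) ((i : M → ℂ) - j)) = 0 := by
  have hiS : (i : M → ℂ) ∈ calI M := ⟨i, hi, rfl⟩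
  have hjS : (j : M → ℂ) ∈ calI M := ⟨j, hj, rfl⟩
  by_cases h1 : (j : M → ℂ) = i
  · rw [h1, sub_self, ← sub_self (0 : M → ℂ), dade_sub, sub_self, Coherence.inner_zero_right]
  by_cases h2 : (j : M → ℂ) = conjFun i
  · rw [h2, hR.sum_eq _ hiS, Coherence.inner_sum_right]
    exact Finset.sum_eq_zero fun α hα => st.psi_orth hR hi hα
  rw [(Coherence.pair_decomp hR hiS hjS h1 h2 hd).1, Coherence.inner_add_right,
    st.psi_orth_proj hR (fun α => st.psi_orth hR hi), st.psi_orth_proj hR (fun α => st.psi_orth hR hj),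
    add_zero]

/-- The system on the induced characters. -/
theorem ind_system : IsCoherenceSystem (inducedIrrAbove (fittingHall M) ⊥)
    (dadeIsometry (suppA M) M (supportR M))
    (fun Φ => (consOf Φ).biUnion fun i => R (i : M → ℂ)) := by
  set K := fittingHall M
  set S := inducedIrrAbove K (⊥ : Subgroup M)
  set τM := dadeIsometry (suppA M) M (supportR M)
  have hθ : ∀ {Φ}, Φ ∈ S → ∃ θ : IrrCharacter K, (θ : K → ℂ) ≠ (fun _ => 1) ∧
      Φ = indFun K (θ : K → ℂ) := by
    rintro Φ ⟨θ, hθ, hne, -, rfl⟩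
    exact ⟨⟨θ, hθ⟩, hne, rfl⟩
  have hmem : ∀ {Φ}, Φ ∈ S → ∀ i ∈ consOf Φ, i ∉ trivSet K := by
    intro Φ hΦ i hi
    obtain ⟨θ, hne, rfl⟩ := hθ hΦ
    exact cons_notMem_trivSet hne hi
  have hcommon : ∀ {Φ Φ'}, Φ ∈ S → Φ' ∈ S → ∀ i, i ∈ consOf Φ → i ∈ consOf Φ' → Φ = Φ' := by
    intro Φ Φ' hΦ hΦ' i hi hi'
    obtain ⟨θ, hne, rfl⟩ := hθ hΦ
    obtain ⟨θ', hne', rfl⟩ := hθ hΦ'
    exact st.fix.ind_eq_of_common hne hne' hi hi'
  have hconjne : ∀ {Φ}, Φ ∈ S → conjFun Φ ≠ Φ := by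
    intro Φ hΦ
    obtain ⟨θ, hne, rfl⟩ := hθ hΦ
    exact st.fix.conj_ind_ne hne
  have hconjmem : ∀ {Φ}, Φ ∈ S → ∀ i ∈ consOf Φ, conjI i ∈ consOf (conjFun Φ) := by
    intro Φ hΦ i hi
    refine Finset.mem_filter.2 ⟨Finset.mem_univ _, ?_⟩
    show classInner (conjFun Φ) (conjFun (i : M → ℂ)) ≠ 0
    rw [PF7.inner_conjFun']
    exact (map_ne_zero _).2 (Finset.mem_filter.1 hi).2
  have hsum : ∀ {Φ}, Φ ∈ S → Φ = ∑ i ∈ consOf Φ, (i : M → ℂ) := by
    intro Φ hΦ
    obtain ⟨θ, hne, rfl⟩ := hθ hΦ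
    exact (st.fix.cons_spec hne).1
  have hirr : ∀ {i j : IrrCharacter M}, i ≠ j → classInner (i : M → ℂ) (j : M → ℂ) = 0 :=
    fun hij => CharCore.classInner_irr_of_ne hij
  have horth : ∀ {Φ Φ'}, Φ ∈ S → Φ' ∈ S → Φ ≠ Φ' → classInner Φ Φ' = 0 := by
    intro Φ Φ' hΦ hΦ' hne
    rw [hsum hΦ, hsum hΦ', Coherence.inner_sum_left]
    refine Finset.sum_eq_zero fun i hi => ?_
    rw [Coherence.inner_sum_right]
    exact Finset.sum_eq_zero fun j hj => hirr fun e => hne (hcommon hΦ hΦ' i hi (e ▸ hj))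
  have hRorth : ∀ {Φ Φ'}, Φ ∈ S → Φ' ∈ S → ∀ i ∈ consOf Φ, ∀ j ∈ consOf Φ', i ≠ j →
      Φ ≠ conjFun Φ' → ∀ α ∈ R (i : M → ℂ), ∀ β ∈ R (j : M → ℂ), classInner α β = 0 := by
    intro Φ Φ' hΦ hΦ' i hi j hj hij hne
    refine hR.disjoint _ ⟨j, hmem hΦ' j hj, rfl⟩ _ ⟨i, hmem hΦ i hi, rfl⟩ (hirr hij) ?_
    exact hirr (j := conjI j) fun e => hne
      (hcommon hΦ (Coherence.seq_conj K hΦ') i hi (e ▸ hconjmem hΦ' j hj))
  obtain ⟨-, -, hK1, -, -⟩ := (st.inputs.data M st.config.hM st.config.hκM).typeF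
  refine
    { nonempty := ?_
      isCharacter := fun Φ hΦ => Coherence.seq_isCharacter K hΦ
      conj_mem := fun Φ hΦ => Coherence.seq_conj K hΦ
      conj_ne := fun Φ hΦ => hconjne hΦ
      isometry := ?_
      map_one := fun α _ => PFTypeOne.dade_apply_one st.dadeM α
      orthogonal := fun Φ hΦ Φ' hΦ' => horth hΦ hΦ'
      orthonormal := ?_
      virtual := ?_
      sum_eq := ?_
      disjoint := ?_ }
  · haveI : Group.IsNilpotent K := BGUniq.fittingHall_isNilpotent M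
    obtain ⟨θ, hθ', -⟩ := Coherence.exists_linear K (by infer_instance) (⊥ : Subgroup M)
      fun h => hK1 (le_bot_iff.1 h)
    exact ⟨_, (Coherence.mem_seq_iff K).2 ⟨θ, hθ', rfl⟩⟩
  · refine (PFTypeOne.dade_isometryOn st.dadeM S
      (fun Φ hΦ => Coherence.gen_of_char (Coherence.seq_isCharacter K hΦ)) ?_).1
    intro Φ hΦ y hy1 hy
    obtain ⟨θ, -, rfl⟩ := hθ hΦ
    exact OddChar.indFun_eq_zero_of_notMem K _ fun hyK => hy (Config.mem_suppA_of_mem
      ((coe_mem_fittingHallOf y).2 hyK) fun e => hy1 (Subtype.ext e))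
  · intro Φ hΦ α hα β hβ
    obtain ⟨i, hi, hαi⟩ := Finset.mem_biUnion.1 hα
    obtain ⟨j, hj, hβj⟩ := Finset.mem_biUnion.1 hβ
    by_cases hij : i = j
    · subst hij
      exact hR.orthonormal _ ⟨i, hmem hΦ i hi, rfl⟩ α hαi β hβj
    · have h0 := hRorth hΦ hΦ i hi j hj hij (hconjne hΦ).symm α hαi β hβj
      split_ifs with e
      · subst e
        rw [hR.orthonormal _ ⟨i, hmem hΦ i hi, rfl⟩ α hαi α hαi, if_pos rfl] at h0
        exact absurd h0 one_ne_zero
      · exact h0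
  · intro Φ hΦ α hα
    obtain ⟨i, hi, hαi⟩ := Finset.mem_biUnion.1 hα
    exact hR.virtual _ ⟨i, hmem hΦ i hi, rfl⟩ α hαi
  · intro Φ hΦ
    rw [Finset.sum_biUnion fun i hi j hj hij => Finset.disjoint_left.2 fun α hαi hαj => ?_]
    · have hc : Φ - conjFun Φ = ∑ i ∈ consOf Φ, ((i : M → ℂ) - conjFun (i : M → ℂ)) := by
        rw [Finset.sum_sub_distrib, ← hsum hΦ, sub_right_inj]
        conv_lhs => rw [hsum hΦ]
        funext y
        simp [conjFun, map_sum]
      show dadeIsometry _ _ _ (Φ - conjFun Φ) = _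
      rw [hc, dade_sum]
      exact Finset.sum_congr rfl fun i hi => hR.sum_eq _ ⟨i, hmem hΦ i hi, rfl⟩
    · have h0 := hRorth hΦ hΦ i hi j hj hij (hconjne hΦ).symm α hαi α hαj
      rw [hR.orthonormal _ ⟨i, hmem hΦ i hi, rfl⟩ α hαi α hαi, if_pos rfl] at h0
      exact one_ne_zero h0
  · intro χ hχ φ hφ h1 h2 α hα β hβ
    obtain ⟨i, hi, hαi⟩ := Finset.mem_biUnion.1 hα
    obtain ⟨j, hj, hβj⟩ := Finset.mem_biUnion.1 hβ
    have hself : classInner φ φ ≠ 0 := by
      obtain ⟨θ, -, rfl⟩ := hθ hφ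
      exact fun e => Coherence.ind_ne_zero K θ (Coherence.inner_self_eq_zero.1 e)
    refine hRorth hφ hχ i hi j hj (fun e => hself ?_) (fun e => hself ?_) α hαi β hβj
    · rwa [← hcommon hφ hχ i hi (e ▸ hj)] at h1
    · rwa [← e] at h2

theorem inner_tau_ind {Φ Φ' : M → ℂ} (hΦ : Φ ∈ inducedIrrAbove (fittingHall M) ⊥)
    (hΦ' : Φ' ∈ inducedIrrAbove (fittingHall M) ⊥) (hd : Φ 1 = Φ' 1) :
    classInner (τ₁ ζ) (dadeIsometry (suppA M) M (supportR M) (Φ - Φ')) = 0 := by
  have hS := st.ind_system hR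
  have horth : ∀ {Ψ}, Ψ ∈ inducedIrrAbove (fittingHall M) (⊥ : Subgroup M) →
      ∀ α ∈ (consOf Ψ).biUnion (fun i => R (i : M → ℂ)), classInner (τ₁ ζ) α = 0 := by
    intro Ψ hΨ α hα
    obtain ⟨i, hi, hαi⟩ := Finset.mem_biUnion.1 hα
    obtain ⟨θ, hθ, hne, -, rfl⟩ := hΨ
    exact st.psi_orth hR (cons_notMem_trivSet (θ := ⟨θ, hθ⟩) hne hi) hαi
  by_cases h1 : Φ' = Φ
  · rw [h1, sub_self, ← sub_self (0 : M → ℂ), dade_sub, sub_self, Coherence.inner_zero_right]
  by_cases h2 : Φ' = conjFun Φ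
  · rw [h2, hS.sum_eq _ hΦ, Coherence.inner_sum_right]
    exact Finset.sum_eq_zero fun α hα => horth hΦ α hα
  rw [(Coherence.pair_decomp hS hΦ hΦ' h1 h2 hd).1, Coherence.inner_add_right,
    st.psi_orth_proj hR (R' := fun Φ => (consOf Φ).biUnion fun i => R (i : M → ℂ)) (horth hΦ),
    st.psi_orth_proj hR (R' := fun Φ => (consOf Φ).biUnion fun i => R (i : M → ℂ)) (horth hΦ'),
    add_zero]

end Setting

end Cfsg.Agent.PF12
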