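import Cfsg.Agent.Lib.Frobenius.Complement
import Cfsg.Prelude.Def_Transfer
import Mathlib.GroupTheory.GroupAction.Quotient
import Mathlib.Data.ZMod.Units

/-!
# A group of odd order fixed point free on a plane
-/

set_option autoImplicit false
set_option linter.style.haveILetI false

namespace Cfsg.Agent.PF12

open Cfsg Subgroup

variable {G : Type*} [Group G] [Finite G] {p : ℕ} {E W : Subgroup G}

theorem orderOf_of_mem_elementary [hp : Fact p.Prime] (hE : IsElementaryAbelian p E) {a : G}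
    (ha : a ∈ E) (ha1 : a ≠ 1) : orderOf a = p :=
  orderOf_eq_prime (hE.2 a ha) ha1

/-- Two elements generating different lines generate the plane. -/
theorem exists_coords [hp : Fact p.Prime] (hE : IsElementaryAbelian p E)
    (hEc : Nat.card E = p ^ 2) {a b : G} (ha : a ∈ E) (ha1 : a ≠ 1) (hb : b ∈ E)
    (hb' : b ∉ zpowers a) {c : G} (hc : c ∈ E) : ∃ i j : ℕ, c = a ^ i * b ^ j := by
  haveI := hE.1
  have hn : zpowers b ≤ normalizer (zpowers a : Set G) :=
    (zpowers_le.2 hb).trans ((Subgroup.le_centralizer E).trans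
      ((centralizer_le (zpowers_le.2 ha)).trans (centralizer_le_normalizer _)))
  have hle : zpowers a ⊔ zpowers b ≤ E := sup_le (zpowers_le.2 ha) (zpowers_le.2 hb)
  have hlt : Nat.card (zpowers a) < Nat.card (zpowers a ⊔ zpowers b : Subgroup G) := by
    refine lt_of_le_of_ne (Nat.le_of_dvd Nat.card_pos (card_dvd_of_le le_sup_left)) fun e => hb' ?_
    rw [Subgroup.eq_of_le_of_card_ge le_sup_left e.ge]
    exact mem_sup_right (mem_zpowers b)
  obtain ⟨k, hk, hk'⟩ := (Nat.dvd_prime_pow hp.out).1 (hEc ▸ card_dvd_of_le hle)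
  have hk2 : k = 2 := by
    rw [hk', Nat.card_zpowers, orderOf_of_mem_elementary hE ha ha1] at hlt
    rcases Nat.lt_or_ge k 2 with h | h
    · interval_cases k
      · simp at hlt; exact absurd hlt hp.out.pos.ne'
      · simp at hlt
    · omega
  have heq : zpowers a ⊔ zpowers b = E :=
    Subgroup.eq_of_le_of_card_ge hle (by rw [hk', hk2, hEc])
  rw [← heq, ← SetLike.mem_coe, coe_mul_of_right_le_normalizer_left _ _ hn] at hc
  obtain ⟨u, hu, v, hv, rfl⟩ := hc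
  obtain ⟨i, rfl⟩ := Submonoid.mem_powers_iff _ _ |>.1 (mem_powers_iff_mem_zpowers.2 hu)
  obtain ⟨j, rfl⟩ := Submonoid.mem_powers_iff _ _ |>.1 (mem_powers_iff_mem_zpowers.2 hv)
  exact ⟨i, j, rfl⟩

/-- An element fixing three lines of a plane fixes all of them. -/
theorem conj_mem_zpowers_of_three [hp : Fact p.Prime] (hE : IsElementaryAbelian p E)
    (hEc : Nat.card E = p ^ 2) {g a b c : G} (ha : a ∈ E) (hb : b ∈ E) (hc : c ∈ E) (ha1 : a ≠ 1)
    (hab : b ∉ zpowers a) (hac : c ∉ zpowers a) (hbc : c ∉ zpowers b)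
    (hga : g * a * g⁻¹ ∈ zpowers a) (hgb : g * b * g⁻¹ ∈ zpowers b)
    (hgc : g * c * g⁻¹ ∈ zpowers c) {y : G} (hy : y ∈ E) : g * y * g⁻¹ ∈ zpowers y := by
  have hb1 : b ≠ 1 := fun e => hab (e ▸ one_mem _)
  have hab' : Commute a b :=
    congrArg Subtype.val (hE.1.is_comm.comm ⟨a, ha⟩ ⟨b, hb⟩)
  obtain ⟨s, hs⟩ := Submonoid.mem_powers_iff _ _ |>.1 (mem_powers_iff_mem_zpowers.2 hga)
  obtain ⟨t, ht⟩ := Submonoid.mem_powers_iff _ _ |>.1 (mem_powers_iff_mem_zpowers.2 hgb)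
  obtain ⟨u, hu⟩ := Submonoid.mem_powers_iff _ _ |>.1 (mem_powers_iff_mem_zpowers.2 hgc)
  obtain ⟨i, j, rfl⟩ := exists_coords hE hEc ha ha1 hb hab hc
  have hpow : ∀ (z : G) (n m : ℕ), g * z * g⁻¹ = z ^ n →
      g * z ^ m * g⁻¹ = (z ^ m) ^ n := fun z n m h => by
    rw [← pow_mul, mul_comm, pow_mul, ← h, conj_pow]
  have hoa := orderOf_of_mem_elementary hE ha ha1
  have hob := orderOf_of_mem_elementary hE hb hb1
  have hi : ¬ p ∣ i := fun hd => hbc (by
    rw [orderOf_dvd_iff_pow_eq_one.1 (hoa.symm ▸ hd : orderOf a ∣ i), one_mul]; exact pow_mem (mem_zpowers b) _)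
  have hj : ¬ p ∣ j := fun hd => hac (by
    rw [orderOf_dvd_iff_pow_eq_one.1 (hob.symm ▸ hd : orderOf b ∣ j), mul_one]; exact pow_mem (mem_zpowers a) _)
  have key : a ^ (s * i) * b ^ (t * j) = a ^ (u * i) * b ^ (u * j) := by
    calc a ^ (s * i) * b ^ (t * j) = (g * a * g⁻¹) ^ i * (g * b * g⁻¹) ^ j := by
          rw [← hs, ← ht, ← pow_mul, ← pow_mul]
      _ = g * (a ^ i * b ^ j) * g⁻¹ := by rw [conj_pow, conj_pow]; group
      _ = (a ^ i * b ^ j) ^ u := hu.symm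
      _ = a ^ (u * i) * b ^ (u * j) := by
          rw [(hab'.pow_pow i j).mul_pow, ← pow_mul, ← pow_mul, mul_comm i, mul_comm j]
  have hdisj : zpowers a ⊓ zpowers b = ⊥ := by
    rw [Subgroup.eq_bot_iff_forall]
    rintro z ⟨hza, hzb⟩
    by_contra hz1
    refine hab ?_
    have hzp : z ∈ E := zpowers_le.2 ha hza
    have h1 := Subgroup.eq_of_le_of_card_ge (zpowers_le.2 hza)
      (by rw [Nat.card_zpowers, Nat.card_zpowers, hoa, orderOf_of_mem_elementary hE hzp hz1])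
    have h2 := Subgroup.eq_of_le_of_card_ge (zpowers_le.2 hzb)
      (by rw [Nat.card_zpowers, Nat.card_zpowers, hob, orderOf_of_mem_elementary hE hzp hz1])
    rw [← h1, h2]
    exact mem_zpowers b
  have hsplit : a ^ (s * i) = a ^ (u * i) ∧ b ^ (t * j) = b ^ (u * j) := by
    have h0 : (a ^ (u * i))⁻¹ * a ^ (s * i) ∈ zpowers a ⊓ zpowers b := by
      refine Subgroup.mem_inf.2 ⟨(zpowers a).mul_mem ((zpowers a).inv_mem (pow_mem (mem_zpowers a) _))
        (pow_mem (mem_zpowers a) _), ?_⟩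
      rw [show (a ^ (u * i))⁻¹ * a ^ (s * i) = b ^ (u * j) * (b ^ (t * j))⁻¹ by
        rw [eq_mul_inv_iff_mul_eq, mul_assoc, key, inv_mul_cancel_left]]
      exact (zpowers b).mul_mem (pow_mem (mem_zpowers b) _)
        ((zpowers b).inv_mem (pow_mem (mem_zpowers b) _))
    rw [hdisj, mem_bot, inv_mul_eq_one] at h0
    exact ⟨h0.symm, by rw [← h0] at key; exact mul_left_cancel key⟩
  have hsu : s ≡ u [MOD p] :=
    Nat.ModEq.cancel_right_of_coprime ((hp.out.coprime_iff_not_dvd).2 hi)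
      (hoa ▸ pow_eq_pow_iff_modEq.1 hsplit.1)
  have htu : t ≡ u [MOD p] :=
    Nat.ModEq.cancel_right_of_coprime ((hp.out.coprime_iff_not_dvd).2 hj)
      (hob ▸ pow_eq_pow_iff_modEq.1 hsplit.2)
  obtain ⟨m, n, rfl⟩ := exists_coords hE hEc ha ha1 hb hab hy
  refine mem_zpowers_iff.2 ⟨(u : ℤ), ?_⟩
  rw [zpow_natCast, show g * (a ^ m * b ^ n) * g⁻¹ = (g * a ^ m * g⁻¹) * (g * b ^ n * g⁻¹) by group,
    hpow a s m hs.symm, hpow b t n ht.symm, (hab'.pow_pow m n).mul_pow]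
  congr 1
  · rw [← pow_mul, ← pow_mul, pow_eq_pow_iff_modEq, hoa]
    exact hsu.symm.mul_left m
  · rw [← pow_mul, ← pow_mul, pow_eq_pow_iff_modEq, hob]
    exact htu.symm.mul_left n

/-- An element of odd order fixing a line with its square fixes it. -/
theorem conj_mem_zpowers_of_sq {g a : G} (hg : Odd (orderOf g))
    (h : g ^ 2 * a * (g ^ 2)⁻¹ ∈ zpowers a) : g * a * g⁻¹ ∈ zpowers a := by
  have h2 : g ^ 2 ∈ normalizer (zpowers a : Set G) := by
    rw [mem_normalizer_iff_map_conj_eq]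
    refine Subgroup.eq_of_le_of_card_ge ?_ (card_map_of_injective
      (MulAut.conj (g ^ 2)).injective).ge
    rw [MonoidHom.map_zpowers]
    exact zpowers_le.2 h
  obtain ⟨m, hm⟩ := exists_pow_eq_self_of_coprime (x := g) (n := 2)
    (Nat.coprime_two_left.2 hg)
  have hg' : g ∈ normalizer (zpowers a : Set G) := hm ▸ pow_mem h2 m
  exact (mem_normalizer_iff.1 hg' a).1 (mem_zpowers a)

/-- A group of odd order acting fixed point freely on a plane, no element of which fixes a given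
line, has order at most `(p + 1) / 2`. -/
theorem two_mul_card_le [hp : Fact p.Prime] (hp2 : p ≠ 2) (hE : IsElementaryAbelian p E)
    (hEc : Nat.card E = p ^ 2) (hW : Odd (Nat.card W)) (hW1 : W ≠ ⊥)
    (hf : Frobenius.IsFPF W E) {x : G} (hx : x ∈ E)
    (hline : ∀ g ∈ W, g * x * g⁻¹ ∈ zpowers x → g = 1) : 2 * Nat.card W ≤ p + 1 := by
  classical
  have hE1 : E ≠ ⊥ := fun e => by
    rw [e, card_bot] at hEc; exact (Nat.one_lt_pow two_ne_zero hp.out.one_lt).ne hEc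
  have hodd : ∀ g ∈ W, Odd (orderOf g) := fun g hg =>
    hW.of_dvd_nat (W.orderOf_dvd_natCard hg)
  have three : ∀ g ∈ W, ∀ a b c : G, a ∈ E → b ∈ E → c ∈ E → a ≠ 1 → b ∉ zpowers a →
      c ∉ zpowers a → c ∉ zpowers b → g * a * g⁻¹ ∈ zpowers a → g * b * g⁻¹ ∈ zpowers b →
      g * c * g⁻¹ ∈ zpowers c → g = 1 := fun g hg a b c ha hb hc ha1 hab hac hbc h1 h2 h3 =>
    hline g hg (conj_mem_zpowers_of_three hE hEc ha hb hc ha1 hab hac hbc h1 h2 h3 hx)
  -- the orbit of a line fixed by `g` under an element commuting with `g`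
  have orbit : ∀ g ∈ W, ∀ h ∈ W, Commute g h → ∀ a ∈ E, a ≠ 1 → g * a * g⁻¹ ∈ zpowers a →
      h * a * h⁻¹ ∉ zpowers a → g = 1 := by
    intro g hg h hh hgh a ha ha1 hga hha
    have hc : ∀ k ∈ W, Commute g k → g * (k * a * k⁻¹) * g⁻¹ ∈ zpowers (k * a * k⁻¹) := by
      intro k _ hgk
      obtain ⟨i, hi⟩ := mem_zpowers_iff.1 hga
      refine mem_zpowers_iff.2 ⟨i, ?_⟩
      rw [conj_zpow, hi]
      calc k * (g * a * g⁻¹) * k⁻¹ = (k * g) * a * (k * g)⁻¹ := by group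
        _ = (g * k) * a * (g * k)⁻¹ := by rw [hgk.eq]
        _ = g * (k * a * k⁻¹) * g⁻¹ := by group
    have ha' : h * a * h⁻¹ ∈ E := hf.conj_mem hh ha
    refine three g hg a (h * a * h⁻¹) (h ^ 2 * a * (h ^ 2)⁻¹) ha ha'
      (hf.conj_mem (pow_mem hh 2) ha) ha1 hha
      (fun e => hha (conj_mem_zpowers_of_sq (hodd h hh) e)) ?_ hga (hc h hh hgh)
      (hc _ (pow_mem hh 2) (hgh.pow_right 2))
    intro e
    refine hha ?_
    obtain ⟨i, hi⟩ := mem_zpowers_iff.1 e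
    refine mem_zpowers_iff.2 ⟨i, ?_⟩
    rw [conj_zpow] at hi
    have hi2 : h * a ^ i * h⁻¹ = h * (h * a * h⁻¹) * h⁻¹ := by rw [hi, sq]; group
    exact mul_left_cancel (mul_right_cancel hi2)
  -- a central element of prime order
  obtain ⟨z₀, hz₀, hz₀1⟩ : ∃ z₀ : W, z₀ ∈ Subgroup.center W ∧ z₀ ≠ 1 := by
    by_contra hall
    push Not at hall
    exact hf.center_ne_bot hE1 hW1 ((Subgroup.eq_bot_iff_forall _).2 hall)
  have hz : (z₀ : G) ∈ W := z₀.2
  have hzc : ∀ g ∈ W, Commute (z₀ : G) g := fun g hg =>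
    (congrArg Subtype.val (mem_center_iff.1 hz₀ ⟨g, hg⟩)).symm
  have hz1 : (z₀ : G) ≠ 1 := fun e => hz₀1 (Subtype.ext e)
  have hpodd : Odd p := hp.out.odd_of_ne_two hp2
  by_cases hA : ∃ a ∈ E, a ≠ 1 ∧ (z₀ : G) * a * (z₀ : G)⁻¹ ∈ zpowers a
  · -- then `W` fixes the line
    obtain ⟨a, ha, ha1, hza⟩ := hA
    have hWa : ∀ g ∈ W, g * a * g⁻¹ ∈ zpowers a := fun g hg => by
      by_contra hga
      exact hz1 (orbit _ hz g hg (hzc g hg) a ha ha1 hza hga)
    have hN : W ≤ normalizer (zpowers a : Set G) := fun g hg => by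
      rw [mem_normalizer_iff_map_conj_eq]
      refine Subgroup.eq_of_le_of_card_ge ?_ (card_map_of_injective (MulAut.conj g).injective).ge
      rw [MonoidHom.map_zpowers]
      exact zpowers_le.2 (hWa g hg)
    have hdvd := (hf.mono_right (zpowers_le.2 ha) hN).card_dvd_card_sub_one
    rw [Nat.card_zpowers, orderOf_of_mem_elementary hE ha ha1] at hdvd
    have h2 : 2 ∣ p - 1 := by obtain ⟨k, hk⟩ := hpodd; exact ⟨k, by omega⟩
    have hmul : 2 * Nat.card W ∣ p - 1 :=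
      (Nat.coprime_two_left.2 hW).mul_dvd_of_dvd_of_dvd h2 hdvd
    have := Nat.le_of_dvd (by have := hp.out.two_le; omega) hmul
    omega
  push Not at hA
  -- `W × (ZMod p)ˣ` acts freely
  have free : ∀ g ∈ W, ∀ a ∈ E, a ≠ 1 → g * a * g⁻¹ ∈ zpowers a → g = 1 := fun g hg a ha ha1 hga =>
    orbit g hg _ hz (hzc g hg).symm a ha ha1 hga (hA a ha ha1)
  let X := {a : G // a ∈ E ∧ a ≠ 1}
  have hmul : ∀ (a : G), a ∈ E → ∀ m n : ℕ, m ≡ n [MOD p] → a ^ m = a ^ n := fun a ha m n hmn => by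
    rw [pow_eq_pow_iff_modEq]; exact hmn.of_dvd (orderOf_dvd_of_pow_eq_one (hE.2 a ha))
  have hne : ∀ (a : G) (k : (ZMod p)ˣ), a ∈ E → a ≠ 1 → a ^ (k : ZMod p).val ≠ 1 := by
    intro a k ha ha1 h0
    have h1 := orderOf_dvd_of_pow_eq_one h0
    rw [orderOf_of_mem_elementary hE ha ha1] at h1
    exact k.ne_zero ((ZMod.val_eq_zero _).1 (Nat.eq_zero_of_dvd_of_lt h1 (ZMod.val_lt _)))
  letI : MulAction (W × (ZMod p)ˣ) X :=
    { smul := fun gk a => ⟨(gk.1 : G) * (a : G) ^ (gk.2 : ZMod p).val * (gk.1 : G)⁻¹,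
        hf.conj_mem gk.1.2 (pow_mem a.2.1 _),
        fun e => hne a gk.2 a.2.1 a.2.2 (conj_eq_one_iff.1 e)⟩
      one_smul := fun a => Subtype.ext (by
        show ((1 : W) : G) * (a : G) ^ ((1 : (ZMod p)ˣ) : ZMod p).val * ((1 : W) : G)⁻¹ = a
        rw [Units.val_one, ZMod.val_one]; simp)
      mul_smul := fun gk hl a => Subtype.ext (by
        show ((gk.1 * hl.1 : W) : G) * (a : G) ^ ((gk.2 * hl.2 : (ZMod p)ˣ) : ZMod p).val *
            ((gk.1 * hl.1 : W) : G)⁻¹ = (gk.1 : G) * ((hl.1 : G) * (a : G) ^ (hl.2 : ZMod p).val *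
            (hl.1 : G)⁻¹) ^ (gk.2 : ZMod p).val * (gk.1 : G)⁻¹
        rw [conj_pow, ← pow_mul, Units.val_mul, ZMod.val_mul,
          hmul a a.2.1 _ _ (Nat.mod_modEq _ p), mul_comm (ZMod.val _), Subgroup.coe_mul]
        group) }
  have hstab : ∀ a : X, MulAction.stabilizer (W × (ZMod p)ˣ) a = ⊥ := by
    intro a
    rw [Subgroup.eq_bot_iff_forall]
    rintro ⟨g, k⟩ hgk
    have h : (g : G) * (a : G) ^ (k : ZMod p).val * (g : G)⁻¹ = a := congrArg Subtype.val hgk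
    have hg1 : (g : G) = 1 := by
      refine free g g.2 ((a : G) ^ (k : ZMod p).val) (pow_mem a.2.1 _) (hne a k a.2.1 a.2.2) ?_
      rw [h]
      obtain ⟨m, hm⟩ := exists_pow_eq_self_of_coprime (x := (a : G)) (n := (k : ZMod p).val) (by
        rw [orderOf_of_mem_elementary hE a.2.1 a.2.2]; exact ZMod.val_coe_unit_coprime k)
      exact mem_zpowers_iff.2 ⟨m, by rw [zpow_natCast]; exact hm⟩
    refine Prod.ext (Subtype.ext hg1) (Units.ext (ZMod.val_injective p ?_))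
    rw [hg1, one_mul, inv_one, mul_one] at h
    have h' : (a : G) ^ (k : ZMod p).val = (a : G) ^ 1 := by rw [h, pow_one]
    rw [pow_eq_pow_iff_modEq, orderOf_of_mem_elementary hE a.2.1 a.2.2] at h'
    show (k : ZMod p).val = (1 : ZMod p).val
    rw [ZMod.val_one]
    exact h'.eq_of_lt_of_lt (ZMod.val_lt _) hp.out.one_lt
  have hdvd : Nat.card W * (p - 1) ∣ p ^ 2 - 1 := by
    have hX : Nat.card X = p ^ 2 - 1 := by
      rw [← hEc]
      have e : X ≃ {a : E // a ≠ 1} :=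
        { toFun := fun a => ⟨⟨a, a.2.1⟩, fun h => a.2.2 (congrArg Subtype.val h)⟩
          invFun := fun a => ⟨a, a.1.2, fun h => a.2 (Subtype.ext h)⟩
          left_inv := fun _ => rfl
          right_inv := fun _ => rfl }
      rw [Nat.card_congr e]
      haveI := Fintype.ofFinite E
      rw [Nat.card_eq_fintype_card, Nat.card_eq_fintype_card, Fintype.card_subtype_compl,
        Fintype.card_subtype_eq]
    rw [← hX, Nat.card_congr (MulAction.selfEquivOrbitsQuotientProd hstab), Nat.card_prod,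
      Nat.card_prod, Nat.card_eq_fintype_card (α := (ZMod p)ˣ), ZMod.card_units]
    exact dvd_mul_left _ _
  have hfac : p ^ 2 - 1 = (p + 1) * (p - 1) := by
    rw [show p ^ 2 - 1 = p * p - 1 * 1 by rw [sq, one_mul], Nat.mul_self_sub_mul_self_eq]
  rw [hfac] at hdvd
  have h1 := (Nat.mul_dvd_mul_iff_right (by have := hp.out.two_le; omega)).1 hdvd
  have h2 : 2 ∣ p + 1 := by obtain ⟨k, hk⟩ := hpodd; exact ⟨k + 1, by omega⟩
  exact Nat.le_of_dvd (Nat.succ_pos p) ((Nat.coprime_two_left.2 hW).mul_dvd_of_dvd_of_dvd h2 h1)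

end Cfsg.Agent.PF12
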