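import Cfsg.Agent.PF12.Witness
import Cfsg.Agent.PF12.Plane
import Cfsg.Agent.PFTypeOne.Coherent
import Cfsg.Agent.BGSigma.KappaUnique
import Cfsg.Agent.BGSigma.TauTwo

/-!
# The configuration excluded by Peterfalvi (12.7)
-/

set_option autoImplicit false
set_option linter.style.haveILetI false
set_option linter.unusedSectionVars false

namespace Cfsg.Agent.PF12

open Cfsg Subgroup

variable {G : Type*} [Group G] [Finite G]

/-- No maximal subgroup with `κ = ∅` has a plane outside its `M_F` for a prime below `p`. -/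
def NoPlaneBelow (G : Type*) [Group G] (p : ℕ) : Prop :=
  ∀ (M : Subgroup G), IsCoatom M → kappa M = ∅ → ∀ q : ℕ, q.Prime → q < p →
    ∀ E : Subgroup G, E ≤ M → IsElementaryAbelian q E → Nat.card E = q ^ 2 →
      q ∣ Nat.card (fittingHallOf M)

/-- The configuration of Peterfalvi (12.7): `K = M_F`, `H = L_F`. -/
structure Config (M L : Subgroup G) (p : ℕ) (x : G) : Prop where
  hM : IsCoatom M
  hκM : kappa M = ∅
  hL : IsCoatom L
  hκL : kappa L = ∅
  prime : p.Prime
  odd : Odd p
  not_dvd : ¬ p ∣ Nat.card (fittingHallOf M)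
  x_mem : x ∈ fittingHallOf L
  x_order : orderOf x = p
  fixed : ∃ y ∈ fittingHallOf M, y ∉ ⁅fittingHallOf M, fittingHallOf M⁆ ∧ x * y = y * x
  cent_le : centralizer ({x} : Set G) ≤ M
  uniq : ∀ N : Subgroup G, IsCoatom N → centralizer ({x} : Set G) ≤ N → N = M
  cent_not : ¬ centralizer ({x} : Set G) ≤ L
  not_conj : ∀ g : G, L ≠ M.map (MulAut.conj g).toMonoidHom
  frobL : ∀ h ∈ fittingHallOf L, h ≠ 1 → L ⊓ centralizer ({h} : Set G) ≤ fittingHallOf L
  compl : IsComplIn (fittingHallOf M) (M ⊓ L) M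
  inf_le : M ⊓ L ≤ fittingHallOf L
  fpf : ∃ z ∈ M, orderOf z = p ∧ ∀ k ∈ fittingHallOf M, z * k = k * z → k = 1
  odd_index : Odd ((fittingHallOf L).relIndex L)
  index_ne_one : (fittingHallOf L).relIndex L ≠ 1
  two_index_le : 2 * (fittingHallOf L).relIndex L ≤ p + 1

theorem Shape.map_conj {M K U U₀ U₁ : Subgroup G} (s : Shape M K U U₀ U₁) {n : G} (hn : n ∈ K) :
    Shape M K (U.map (MulAut.conj n).toMonoidHom) (U₀.map (MulAut.conj n).toMonoidHom)
      (U₁.map (MulAut.conj n).toMonoidHom) := by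
  have hnM := s.le hn
  have hnN := s.normal hnM
  have hK : K.map (MulAut.conj n).toMonoidHom = K := mem_normalizer_iff_map_conj_eq.1 hnN
  have hM : M.map (MulAut.conj n).toMonoidHom = M :=
    mem_normalizer_iff_map_conj_eq.1 (le_normalizer hnM)
  have hinj := (MulAut.conj n).injective
  have he : ∀ A : Subgroup G, Monoid.exponent (A.map (MulAut.conj n).toMonoidHom) =
      Monoid.exponent A := fun A =>
    (Monoid.exponent_eq_of_mulEquiv (A.equivMapOfInjective _ hinj)).symm
  refine { s with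
    compl := ⟨s.le, (map_mono s.U_le).trans hM.le, ?_, ?_⟩
    exponent_quot := (he U).trans s.exponent_quot
    U_ne := fun e => s.U_ne ((map_eq_bot_iff_of_injective _ hinj).1 e)
    le₀ := map_mono s.le₀
    exponent_eq := by rw [he, he]; exact s.exponent_eq
    fpf := ⟨(map_mono (s.le₀.trans s.U_le)).trans (hM.le.trans s.normal), ?_⟩
    le₁ := map_mono s.le₁
    comm₁ := ?_
    cent₁ := ?_ }
  · conv_lhs => rw [← hK]
    rw [← map_inf _ _ _ hinj, s.compl.2.2.1, Subgroup.map_bot]
  · intro m hm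
    obtain ⟨a, ha, b, hb, hab⟩ := s.compl.2.2.2 (n⁻¹ * m * n) (M.mul_mem (M.mul_mem (M.inv_mem hnM) hm) hnM)
    refine ⟨n * a * n⁻¹, (mem_normalizer_iff.1 hnN a).1 ha, n * b * n⁻¹, ⟨b, hb, rfl⟩, ?_⟩
    calc m = n * (n⁻¹ * m * n) * n⁻¹ := by group
      _ = _ := by rw [hab]; group
  · rintro - ⟨a, ha, rfl⟩ ha1
    rw [Subgroup.eq_bot_iff_forall]
    rintro k ⟨hk, hc⟩
    rw [← hK] at hk
    obtain ⟨k₀, hk₀, rfl⟩ := hk
    have hc' : a * k₀ = k₀ * a := hinj (by
      simpa using (mem_centralizer_singleton_iff.1 hc).symm)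
    rw [s.fpf.eq_one_of_commute ha (fun e => ha1 (by rw [e, map_one])) hk₀ hc', map_one]
  · haveI := s.comm₁
    exact Subgroup.map_isMulCommutative _ _
  · intro k hk hk1 y hy
    rw [← hK] at hk
    obtain ⟨k₀, hk₀, rfl⟩ := hk
    obtain ⟨⟨u, hu, rfl⟩, hy2⟩ := hy
    exact ⟨u, s.cent₁ k₀ hk₀ (fun e => hk1 (by rw [e, map_one])) ⟨hu,
      mem_centralizer_singleton_iff.2 (hinj (by simpa using mem_centralizer_singleton_iff.1 hy2))⟩,
      rfl⟩

/-- The elements of order dividing `p` of an abelian group. -/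
theorem exists_omega {p : ℕ} [hp : Fact p.Prime] {H L E : Subgroup G} (hc : IsMulCommutative H)
    (hr : RankLE 2 H) (hLH : L ≤ normalizer (H : Set G)) (hEH : E ≤ H)
    (hE : IsElementaryAbelian p E) (hEc : Nat.card E = p ^ 2) : L ≤ normalizer (E : Set G) := by
  let Ω : Subgroup G :=
    { carrier := {h | h ∈ H ∧ h ^ p = 1}
      one_mem' := ⟨H.one_mem, one_pow _⟩
      mul_mem' := fun {a b} ha hb => ⟨H.mul_mem ha.1 hb.1, by
        have hab : Commute a b := congrArg Subtype.val (hc.is_comm.comm ⟨a, ha.1⟩ ⟨b, hb.1⟩)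
        rw [hab.mul_pow, ha.2, hb.2, one_mul]⟩
      inv_mem' := fun {a} ha => ⟨H.inv_mem ha.1, by rw [inv_pow, ha.2, inv_one]⟩ }
  have hEΩ : E ≤ Ω := fun a ha => ⟨hEH ha, hE.2 a ha⟩
  have hΩH : Ω ≤ H := fun a ha => ha.1
  have hle : Nat.card Ω ≤ p ^ 2 := by
    rw [← Nat.card_congr (subgroupOfEquivOfLe hΩH).toEquiv]
    exact hr p hp.out (Ω.subgroupOf H) ⟨⟨fun a b => Subtype.ext (hc.is_comm.comm a.1 b.1)⟩⟩
      fun a ha => Subtype.ext ha.2
  rw [Subgroup.eq_of_le_of_card_ge hEΩ (hle.trans hEc.ge)]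
  refine Coprime.le_normalizer_of_conj_mem fun l hl a ha => ⟨?_, ?_⟩
  · exact (mem_normalizer_iff.1 (hLH hl) a).1 ha.1
  · rw [conj_pow, ha.2, mul_one, mul_inv_cancel]

theorem exists_config [Fintype G] (h : Inputs G) {p : ℕ} [hp : Fact p.Prime] (hmin : NoPlaneBelow G p)
    {M L E : Subgroup G} {x c : G} (w : Witness M L p E x c) : Config M L p x := by
  have hG := h.minSimple
  have hodd : ∀ A : Subgroup G, Odd (Nat.card A) := fun A =>
    hG.1.of_dvd_nat A.card_subgroup_dvd_card
  obtain ⟨UM, UM₀, UM₁, sM⟩ := exists_shape (h.data M w.hM w.hκM)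
  obtain ⟨UL, UL₀, UL₁, sL⟩ := exists_shape (h.data L w.hL w.hκL)
  set K := fittingHallOf M with hK
  set H := fittingHallOf L with hH
  have hcoreM := (h.data M w.hM w.hκM).core
  have hcoreL := (h.data L w.hL w.hκL).core
  have hE1 : E ≠ ⊥ := fun e => w.x_ne (mem_bot.1 (e ▸ w.x_mem))
  have hpG : p ∣ Nat.card E := w.E_card ▸ dvd_pow_self p two_ne_zero
  have hpodd : Odd p := (hodd E).of_dvd_nat hpG
  have hpH : p ∣ Nat.card H := hpG.trans (card_dvd_of_le w.E_le_L)
  have hord : orderOf x = p := orderOf_of_mem_elementary w.E_elem w.x_mem w.x_ne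
  -- the rank two case
  have hrank : ¬ (∀ r : ℕ, r.Prime → r ∣ Nat.card H → Monoid.exponent (L ⧸ fittingHall L) ∣ r - 1) →
      L ≤ normalizer (E : Set G) := by
    intro hnot
    rcases (h.data L w.hL w.hκL).cases with hT | ⟨hab, hr, -⟩ | ⟨hexp, -⟩
    · exact absurd hT w.not_TI
    · exact exists_omega hab hr sL.normal w.E_le_L w.E_elem w.E_card
    · exact absurd hexp hnot
  -- the primes of a complement of `H` are below `p`
  have hlt : ∀ q : ℕ, q.Prime → q ∣ Nat.card UL → q < p := by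
    intro q hq hd
    haveI := Fact.mk hq
    obtain ⟨u, hu⟩ := exists_prime_orderOf_dvd_card' q hd
    have hqe : q ∣ Monoid.exponent UL := hu ▸ Monoid.order_dvd_exponent u
    by_cases hexp : ∀ r : ℕ, r.Prime → r ∣ Nat.card H → Monoid.exponent (L ⧸ fittingHall L) ∣ r - 1
    · have h1 := hexp p hp.out hpH
      rw [← sL.exponent_quot] at h1
      have := Nat.le_of_dvd (by have := hp.out.two_le; omega) (hqe.trans h1)
      have := hp.out.two_le
      omega
    · have hN := hrank hexp
      rw [← sL.exponent_eq] at hqe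
      obtain ⟨z, hz⟩ := exists_prime_orderOf_dvd_card' (G := UL₀) q
        (hqe.trans Group.exponent_dvd_nat_card)
      have hf := (sL.fpf.mono_left (zpowers_le.2 z.2)).mono_right w.E_le_L
        ((zpowers_le.2 (sL.U_le (sL.le₀ z.2))).trans hN)
      have hdvd := hf.card_dvd_card_sub_one
      rw [Nat.card_zpowers, Subgroup.orderOf_coe, hz, w.E_card,
        show p ^ 2 - 1 = (p + 1) * (p - 1) by
          rw [show p ^ 2 - 1 = p * p - 1 * 1 by rw [sq, one_mul], Nat.mul_self_sub_mul_self_eq]]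
        at hdvd
      have hq2 : q ≠ 2 := by
        rintro rfl
        exact absurd ((hodd UL).of_dvd_nat hd) (by decide)
      rcases hq.dvd_mul.1 hdvd with h1 | h1
      · have hle := Nat.le_of_dvd (Nat.succ_pos p) h1
        rcases Nat.lt_or_ge q p with h2 | h2
        · exact h2
        · exfalso
          rcases Nat.lt_or_ge q (p + 1) with h3 | h3
          · obtain rfl : q = p := by omega
            exact hp.out.ne_one (Nat.dvd_one.1 ((Nat.dvd_add_right (dvd_refl q)).1 h1))
          · obtain rfl : q = p + 1 := by omega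
            exact hq2 ((hq.eq_two_or_odd).resolve_right fun ho => by
              obtain ⟨k, hk⟩ := hpodd; omega)
      · have := Nat.le_of_dvd (by have := hp.out.two_le; omega) h1
        have := hp.out.two_le
        omega
  -- so `L` is a Frobenius group
  have hfrob : ∀ y ∈ H, y ≠ 1 → L ⊓ centralizer ({y} : Set G) ≤ H := by
    refine (sL.exists_plane_or_frobenius hG.1).resolve_right ?_
    rintro ⟨q, hq, hqH, E', hE', hE'e, hE'c⟩
    exact hqH (hmin L w.hL w.hκL q hq
      (hlt q hq ((dvd_pow_self q two_ne_zero).trans (hE'c ▸ card_dvd_of_le hE')))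
      E' (hE'.trans sL.U_le) hE'e hE'c)
  have hfpf : Frobenius.IsFPF UL H := ⟨sL.U_le.trans sL.normal, fun u hu hu1 => by
    rw [Subgroup.eq_bot_iff_forall]
    rintro y ⟨hy, hc⟩
    by_contra hy1
    refine hu1 ?_
    have h1 : u ∈ H ⊓ UL := ⟨hfrob y hy hy1 ⟨sL.U_le hu, mem_centralizer_singleton_iff.2
      (mem_centralizer_singleton_iff.1 hc).symm⟩, hu⟩
    rwa [sL.compl.2.2.1, mem_bot] at h1⟩
  -- the complement `M ⊓ L`
  obtain ⟨N, ⟨hN, hxN⟩, -, -, -, -, hNc, -⟩ := S1375.result hG L w.hL x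
    (hcoreL ▸ w.E_le_L w.x_mem) w.x_ne w.cent_not
  obtain rfl : N = M := w.uniq N hN hxN
  set V := N ⊓ L with hVdef
  have hVc : IsComplIn K V N := by
    obtain ⟨h1, h2, h3, h4⟩ := hNc
    rw [hcoreM] at h3 h4
    refine ⟨sM.le, inf_le_left, ?_, fun m hm => ?_⟩
    · rw [hVdef, inf_comm N L, inf_comm]; exact h3
    · obtain ⟨a, ha, b, hb, hab⟩ := h4 m⁻¹ (N.inv_mem hm)
      exact ⟨b⁻¹, K.inv_mem hb, a⁻¹, ⟨N.inv_mem ha.2, L.inv_mem ha.1⟩, by
        rw [← mul_inv_rev, ← hab, inv_inv]⟩
  have hVcard : Nat.card V = Nat.card UM := by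
    rw [sM.card_U, BGSummary.card_eq_of_complIn hVc sM.normal]
  obtain ⟨n, hn, hnU⟩ := Coprime.exists_conj_le K UM V (sM.U_le.trans sM.normal)
    (inf_le_left.trans sM.normal)
    (sM.U_le.trans fun m hm => by
      obtain ⟨a, ha, b, hb, rfl⟩ := hVc.2.2.2 m hm; exact mul_mem_sup ha hb)
    sM.coprime_U.symm (hVcard.symm ▸ sM.coprime_U.symm)
    (Or.inl (haveI := BGSigma.coatom_isSolvable hG w.hM
      Group.isSolvable_of_isSolvable_injective (f := inclusion sM.U_le) (inclusion_injective _)))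
  have hUV : UM.map (MulAut.conj n).toMonoidHom = V := by
    refine Subgroup.eq_of_le_of_card_ge ?_ ?_
    · rintro - ⟨u, hu, rfl⟩; exact hnU u hu
    · rw [card_map_of_injective (MulAut.conj n).injective, hVcard]
  have sV := sM.map_conj hn
  rw [hUV] at sV
  set V₀ := UM₀.map (MulAut.conj n).toMonoidHom with hV₀
  have hEV : E ≤ V := le_inf w.E_le (w.E_le_L.trans sL.le)
  -- `V ≤ H`
  have hVH : V ≤ H := by
    refine BGSigma.le_of_coprime_relIndex sL.le sL.normal inf_le_right ?_
    rw [← sL.card_U]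
    by_contra hcop
    obtain ⟨q, hq, hqV, hqU⟩ := Nat.Prime.not_coprime_iff_dvd.1 hcop
    haveI := Fact.mk hq
    have hqH : ¬ q ∣ Nat.card H := fun hd => hq.ne_one (Nat.eq_one_of_dvd_coprimes sL.coprime_U hd hqU)
    have hqp : q ≠ p := fun e => hqH (e ▸ hpH)
    have hdiv : ∀ r : ℕ, r.Prime → r ∣ Nat.card V → r ∣ Nat.card V₀ := by
      intro r hr hd
      haveI := Fact.mk hr
      obtain ⟨u, hu⟩ := exists_prime_orderOf_dvd_card' r hd
      refine (?_ : r ∣ Monoid.exponent V₀).trans Group.exponent_dvd_nat_card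
      rw [sV.exponent_eq]
      exact hu ▸ Monoid.order_dvd_exponent u
    have hpV : p ∣ Nat.card V := hpG.trans (card_dvd_of_le hEV)
    -- a normal nilpotent subgroup of `V₀` containing all elements of order `p`
    set D := V₀ ⊓ H with hD
    have hDn : V₀ ≤ normalizer (D : Set G) :=
      Coprime.le_normalizer_inf le_normalizer ((sV.le₀.trans inf_le_right).trans sL.normal)
    have hnilD : Group.IsNilpotent D :=
      haveI := sL.nilpotent
      Group.nilpotent_of_mulEquiv (subgroupOfEquivOfLe (inf_le_right : D ≤ H))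
    have hpmem : ∀ a ∈ V₀, a ^ p = 1 → a ∈ D := by
      intro a ha hap
      refine ⟨ha, ?_⟩
      refine BGSigma.le_of_coprime_relIndex sL.le sL.normal
        (zpowers_le.2 (sV.le₀ ha).2) ?_ (mem_zpowers a)
      rw [Nat.card_zpowers]
      refine Nat.Coprime.coprime_dvd_left (orderOf_dvd_of_pow_eq_one hap) ?_
      refine hp.out.coprime_iff_not_dvd.2 fun hd => hp.out.ne_one ?_
      exact Nat.eq_one_of_dvd_coprimes sL.coprime hpH hd
    obtain ⟨P⟩ := (inferInstance : Nonempty (Sylow p D))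
    have hPn : (P : Subgroup D).Normal :=
      ((Group.isNilpotent_of_finite_tfae (G := D)).out 0 3 rfl rfl).1 hnilD p hp P
    have hP1 : (P : Subgroup D) ≠ ⊥ := by
      obtain ⟨a, ha⟩ := exists_prime_orderOf_dvd_card' (G := V₀) p (hdiv p hp.out hpV)
      have haD := hpmem a a.2 (by rw [← ha, ← Subgroup.orderOf_coe a, pow_orderOf_eq_one])
      intro e
      have hd : p ∣ Nat.card D := by
        rw [← ha, ← Subgroup.orderOf_coe a]
        exact D.orderOf_dvd_natCard haD
      have := P.dvd_card_of_dvd_card hd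
      rw [e, card_bot] at this
      exact hp.out.ne_one (Nat.dvd_one.1 this)
    have hPcomm : ∀ a b : D, a ^ p = 1 → b ∈ (P : Subgroup D) → b ^ p = 1 → b ≠ 1 →
        (∀ y ∈ (P : Subgroup D), Commute b y) → (a : G) ∈ zpowers (b : G) := by
      intro a b ha hb hbp hb1 hbc
      by_cases ha1 : a = 1
      · rw [ha1]; exact one_mem _
      have haP : a ∈ (P : Subgroup D) := by
        obtain ⟨Q, hQ⟩ := (IsPGroup.of_card (p := p) (n := 1) (G := zpowers a)
          (by
            rw [Nat.card_zpowers, pow_one]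
            exact orderOf_eq_prime ha ha1) : IsPGroup p (zpowers a)).exists_le_sylow
        haveI := Sylow.unique_of_normal P hPn
        rw [Subsingleton.elim P Q]
        exact hQ (mem_zpowers a)
      exact sV.fpf.mem_zpowers_of_commute sV.ne b.2.1 a.2.1
        (by rw [Subgroup.orderOf_coe]; exact orderOf_eq_prime hbp hb1)
        (congrArg Subtype.val ha : ((a : G)) ^ p = 1)
        (congrArg Subtype.val (hbc a haP).eq)
    obtain ⟨b, hbP, hbp, hb1, hbc⟩ : ∃ b ∈ (P : Subgroup D), b ^ p = 1 ∧ b ≠ 1 ∧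
        ∀ y ∈ (P : Subgroup D), Commute b y := by
      haveI : Nontrivial (P : Subgroup D) := (nontrivial_iff_ne_bot _).2 hP1
      haveI := P.2.center_nontrivial
      obtain ⟨z, hz⟩ := exists_ne (1 : Subgroup.center (P : Subgroup D))
      have hd : p ∣ Nat.card (Subgroup.center (P : Subgroup D)) := by
        obtain ⟨k, hk⟩ := (P.2.to_subgroup (Subgroup.center (P : Subgroup D))).exists_card_eq
        rcases k with _ | k
        · rw [pow_zero, card_eq_one] at hk
          exact absurd (Subtype.ext (mem_bot.1 (hk ▸ z.2))) hz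
        · rw [hk]; exact dvd_pow_self p k.succ_ne_zero
      obtain ⟨z, hz⟩ := exists_prime_orderOf_dvd_card' p hd
      refine ⟨((z : (P : Subgroup D)) : D), (z : (P : Subgroup D)).2, ?_, ?_, fun y hy => ?_⟩
      · have e1 := pow_orderOf_eq_one z
        rw [hz] at e1
        exact congrArg (fun w : Subgroup.center (P : Subgroup D) => ((w : (P : Subgroup D)) : D)) e1
      · intro e
        rw [show z = 1 from Subtype.ext (Subtype.ext e), orderOf_one] at hz
        exact hp.out.ne_one hz.symm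
      · exact congrArg Subtype.val (mem_center_iff.1 z.2 ⟨y, hy⟩).symm
    obtain ⟨g, hg⟩ := exists_prime_orderOf_dvd_card' (G := V₀) q (hdiv q hq hqV)
    have hbo : orderOf (b : G) = p := by rw [Subgroup.orderOf_coe]; exact orderOf_eq_prime hbp hb1
    have hgb : (g : G) * b * (g : G)⁻¹ ∈ zpowers (b : G) := by
      have hmem : (g : G) * b * (g : G)⁻¹ ∈ D := (mem_normalizer_iff.1 (hDn g.2) _).1 b.2
      refine hPcomm ⟨_, hmem⟩ b (Subtype.ext ?_) hbP hbp hb1 hbc
      show ((g : G) * b * (g : G)⁻¹) ^ p = 1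
      rw [conj_pow, ← SubmonoidClass.coe_pow, hbp]; simp
    have hcomm := sV.fpf.commute_of_prime_orders sV.ne hp.out hq hqp.symm b.2.1 g.2 hbo
      (by rw [Subgroup.orderOf_coe, hg]) hgb
    have hgH : (g : G) ∈ H := hfrob b b.2.2 (fun e => hb1 (Subtype.ext e))
      ⟨(sV.le₀ g.2).2, mem_centralizer_singleton_iff.2 hcomm.symm.eq⟩
    exact hqH (by rw [← hg, ← Subgroup.orderOf_coe]; exact H.orderOf_dvd_natCard hgH)
  -- an element of order `p` fixed point free on `K`
  have hz : ∃ z ∈ N, orderOf z = p ∧ ∀ k ∈ K, z * k = k * z → k = 1 := by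
    have hd : p ∣ Monoid.exponent V₀ := by
      rw [sV.exponent_eq, ← hord, show orderOf x = orderOf (⟨x, hEV w.x_mem⟩ : V) from
        (Subgroup.orderOf_mk _ _).symm]
      exact Monoid.order_dvd_exponent _
    obtain ⟨z, hz⟩ := exists_prime_orderOf_dvd_card' (G := V₀) p
      (hd.trans Group.exponent_dvd_nat_card)
    refine ⟨z, sV.U_le (sV.le₀ z.2), by rw [Subgroup.orderOf_coe, hz], fun k hk e =>
      sV.fpf.eq_one_of_commute z.2 (fun e1 => ?_) hk e⟩
    rw [show z = 1 from Subtype.ext e1, orderOf_one] at hz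
    exact hp.out.ne_one hz.symm
  -- the index of `H`
  have he1 : Nat.card UL ≠ 1 := fun e => sL.U_ne (eq_bot_of_card_eq _ e)
  have hbound : 2 * Nat.card UL ≤ p + 1 := by
    by_cases hexp : ∀ r : ℕ, r.Prime → r ∣ Nat.card H → Monoid.exponent (L ⧸ fittingHall L) ∣ r - 1
    · have h1 := hexp p hp.out hpH
      haveI := sL.U_le
      have h2 : Monoid.exponent (L ⧸ fittingHall L) = Nat.card UL := by
        obtain ⟨-, hoddL, hK1, -, U', -, hU', -, -⟩ := (h.data L w.hL w.hκL).typeF
        rw [PFTypeOne.index_dvd_of_exponent (fittingHall L) hoddL hK1 hU'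
          (BGUniq.fittingHall_coprime L) ?_, sL.card_U, relIndex, hH,
          PFTypeOne.subgroupOf_fittingHallOf]
        intro y hy hy1 u hu
        have hy' : (y : G) ∈ H := by
          rw [hH, fittingHallOf]; exact ⟨y, hy, rfl⟩
        have hu' := hfrob y hy' (fun e => hy1 (Subtype.ext e)) ⟨u.2, mem_centralizer_singleton_iff.2
          (congrArg Subtype.val (mem_centralizer_singleton_iff.1 hu))⟩
        rw [hH, fittingHallOf] at hu'
        obtain ⟨u', hu'', he⟩ := hu'
        rwa [← Subtype.ext he]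
      rw [h2] at h1
      have h3 : 2 * Nat.card UL ∣ p - 1 := (Nat.coprime_two_left.2 (hodd UL)).mul_dvd_of_dvd_of_dvd
        (by obtain ⟨k, hk⟩ := hpodd; exact ⟨k, by omega⟩) h1
      have := Nat.le_of_dvd (by have := hp.out.two_le; omega) h3
      omega
    · have hN' := hrank hexp
      refine two_mul_card_le (fun e => by subst e; exact absurd hpodd (by decide)) w.E_elem w.E_card
        (hodd UL) sL.U_ne (hfpf.mono_right w.E_le_L (sL.U_le.trans hN')) w.x_mem fun g hg hgx => ?_
      -- `g` moves `M` to a subgroup over `C(x)`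
      have hcoat := BGSigma.isCoatom_map_conj w.hM g
      have hmap : N.map (MulAut.conj g).toMonoidHom = N := by
        refine w.uniq _ hcoat fun u hu => ?_
        refine ⟨g⁻¹ * u * g, w.cent_le ?_, by simp [mul_assoc]⟩
        rw [mem_centralizer_singleton_iff] at hu ⊢
        obtain ⟨i, hi⟩ := mem_zpowers_iff.1 hgx
        have hcx : Commute u (g * x * g⁻¹) := hi ▸ (show Commute u x from hu).zpow_right i
        calc g⁻¹ * u * g * x = g⁻¹ * (u * (g * x * g⁻¹)) * g := by group
          _ = g⁻¹ * ((g * x * g⁻¹) * u) * g := by rw [hcx.eq]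
          _ = x * (g⁻¹ * u * g) := by group
      have hgN : g ∈ N := BGSigma.mem_of_map_conj_eq hG w.hM hmap
      have hg' : g ∈ H ⊓ UL := ⟨hVH ⟨hgN, sL.U_le hg⟩, hg⟩
      rwa [sL.compl.2.2.1, mem_bot] at hg'
  exact
    { hM := w.hM, hκM := w.hκM, hL := w.hL, hκL := w.hκL, prime := w.prime, odd := hpodd
      not_dvd := w.not_dvd, x_mem := w.E_le_L w.x_mem, x_order := hord
      fixed := ⟨c, w.c_mem, w.c_not, w.comm⟩
      cent_le := w.cent_le, uniq := w.uniq, cent_not := w.cent_not, not_conj := w.not_conj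
      frobL := hfrob, compl := hVc, inf_le := hVH, fpf := hz
      odd_index := sL.card_U ▸ hodd UL
      index_ne_one := sL.card_U ▸ he1
      two_index_le := sL.card_U ▸ hbound }

end Cfsg.Agent.PF12
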