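import Cfsg.Agent.PF12.Partner
import Cfsg.Agent.PF12.Constituents
import Cfsg.Agent.PF7.KernelRho
import Cfsg.Agent.PF7.Pair
import Cfsg.Agent.BGSummary.FrobI
import Cfsg.Agent.S1379

/-!
# Coherence on `L`, constituents on `M`, and the supports in the configuration of (12.7)
-/

set_option autoImplicit false
set_option linter.style.haveILetI false
set_option linter.unusedSectionVars false

namespace Cfsg.Agent.PF12

open Cfsg Subgroup
open scoped Classical

variable {G : Type*} [Group G]

theorem coe_mem_fittingHallOf {M : Subgroup G} (x : M) :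
    (x : G) ∈ fittingHallOf M ↔ x ∈ fittingHall M := by
  rw [fittingHallOf, mem_map_iff_mem M.subtype_injective (K := fittingHall M) (x := x) |>.symm]
  rfl

variable [Finite G]

theorem typeI_of_frob {M : Subgroup G} (d : OneData M)
    (hf : ∀ x ∈ fittingHallOf M, x ≠ 1 → M ⊓ centralizer ({x} : Set G) ≤ fittingHallOf M) :
    IsOfTypeI M := by
  refine ⟨d.typeF, d.cases.imp id (Or.imp id fun ⟨he, p, hp, hd, hc⟩ => ⟨he, p, hp, hd, ?_⟩)⟩
  have hle := BGSummary.opp_le_kernel (BGUniq.fittingHallOf_le M)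
    (BGSummary.le_normalizer_fittingHallOf M) hf hp hd
  have hc' : IsCyclic (BGUniq.opp p (fittingHallOf M)) :=
    ((pPrimeCore p ↥(fittingHallOf M)).equivMapOfInjective _
      (Subgroup.subtype_injective _)).isCyclic.mp hc
  have hle' : BGUniq.opp p M ≤ BGUniq.opp p (fittingHallOf M) :=
    BGUniq.le_opp hle ((BGUniq.fittingHallOf_le M).trans (BGUniq.le_normalizer_opp p M))
      (BGUniq.opp_coprime p M)
  haveI := hc'
  exact ((pPrimeCore p ↥M).equivMapOfInjective _ M.subtype_injective).isCyclic.mpr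
    (Subgroup.isCyclic_of_le hle')

/-- Elements centralising non-identity elements of `M_F` commute modulo `M_F`. -/
theorem abelianFix {M : Subgroup G} [Fintype M] (hG : Odd (Nat.card G)) (d : OneData M) :
    AbelianFix (fittingHall M) := by
  obtain ⟨U, U₀, U₁, s⟩ := exists_shape d
  refine ⟨hG.of_dvd_nat (card_subgroup_dvd_card M), BGUniq.fittingHall_coprime M, ?_⟩
  set π := QuotientGroup.mk' (fittingHall M)
  have key : ∀ x : M, (∃ k ∈ fittingHall M, k ≠ 1 ∧ x * k = k * x) →
      ∃ u : M, (u : G) ∈ U₁ ∧ π x = π u := by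
    rintro x ⟨k, hk, hk1, hxk⟩
    set c := Nat.card (fittingHallOf M) with hc
    have hpow : (x : G) ^ (fittingHallOf M).relIndex M ∈ fittingHallOf M := by
      haveI := (normal_subgroupOf_iff_le_normalizer s.le).2 s.normal
      exact ((fittingHallOf M).subgroupOf M).pow_index_mem x
    have hord : (orderOf ((x : G) ^ c)).Coprime c := by
      refine Nat.Coprime.coprime_dvd_left (orderOf_dvd_of_pow_eq_one ?_) s.coprime.symm
      rw [← pow_mul, mul_comm, pow_mul]
      exact orderOf_dvd_iff_pow_eq_one.1 (Subgroup.orderOf_dvd_natCard _ hpow)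
    obtain ⟨n, hn, hU⟩ := s.exists_conj_mem (pow_mem x.2 c) hord
    have hnM : n ∈ M := s.le hn
    let n' : M := ⟨n, hnM⟩
    have hn' : π n' = 1 := (QuotientGroup.eq_one_iff _).2 ((coe_mem_fittingHallOf n').1 hn)
    have hkc : Commute (x ^ c) k := (show Commute x k from hxk).pow_left c
    have hmem : ((n' * x ^ c * n'⁻¹ : M) : G) ∈ U₁ := by
      refine s.cent₁ ((n' * k * n'⁻¹ : M) : G) ((coe_mem_fittingHallOf _).2
        ((fittingHall_normal M).conj_mem k hk n')) (fun e => hk1 ?_) ⟨?_, ?_⟩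
      · exact conj_eq_one_iff.1 (Subtype.ext e : n' * k * n'⁻¹ = 1)
      · push_cast; exact hU
      · show _ ∈ centralizer _
        rw [mem_centralizer_singleton_iff]
        refine congrArg Subtype.val (?_ : n' * x ^ c * n'⁻¹ * (n' * k * n'⁻¹) =
          n' * k * n'⁻¹ * (n' * x ^ c * n'⁻¹))
        calc n' * x ^ c * n'⁻¹ * (n' * k * n'⁻¹) = n' * (x ^ c * k) * n'⁻¹ := by group
          _ = n' * (k * x ^ c) * n'⁻¹ := by rw [hkc.eq]
          _ = _ := by group
    set u : M := n' * x ^ c * n'⁻¹ with hu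
    have hπ : π u = π x ^ c := by rw [hu, map_mul, map_mul, map_inv, hn', map_pow]; simp
    have h1 : π x ^ (fittingHallOf M).relIndex M = 1 := by
      rw [← map_pow]
      refine (QuotientGroup.eq_one_iff _).2 ((coe_mem_fittingHallOf _).1 ?_)
      push_cast
      exact hpow
    obtain ⟨m, hm⟩ := exists_pow_eq_self_of_coprime (x := π x) (n := c)
      (s.coprime.coprime_dvd_right (orderOf_dvd_of_pow_eq_one h1))
    exact ⟨u ^ m, by push_cast; exact pow_mem hmem m, by rw [map_pow, hπ, hm]⟩
  intro x y hx hy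
  obtain ⟨u, hu, hxu⟩ := key x hx
  obtain ⟨v, hv, hyv⟩ := key y hy
  haveI := s.comm₁
  have huv : u * v = v * u :=
    Subtype.ext (show (u : G) * v = v * u from
      congrArg Subtype.val (mul_comm' (⟨(u : G), hu⟩ : U₁) ⟨(v : G), hv⟩))
  rw [← QuotientGroup.eq_one_iff]
  show π (x * y * x⁻¹ * y⁻¹) = 1
  rw [map_mul, map_mul, map_mul, map_inv, map_inv, hxu, hyv, ← map_inv, ← map_inv, ← map_mul,
    ← map_mul, ← map_mul, huv]
  simp

variable {M L : Subgroup G} {p : ℕ} {x : G}

namespace Config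

theorem typeI_L (cf : Config M L p x) (h : Inputs G) : IsOfTypeI L :=
  typeI_of_frob (h.data L cf.hL cf.hκL) cf.frobL

theorem suppA_L (cf : Config M L p x) (h : Inputs G) :
    suppA L = (fittingHallOf L : Set G) \ {1} := by
  haveI : Fintype G := Fintype.ofFinite G
  rw [suppA_eq_typeA (cf.typeI_L h), PFTypeOne.typeA_eq (cf.typeI_L h) cf.frobL]

theorem exists_kernelData [Fintype G] [Fintype L] (cf : Config M L p x) (h : Inputs G) :
    ∃ τ₁, PF7.KernelData (suppA L) L (supportR L) (fittingHall L) τ₁ := by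
  have hI := cf.typeI_L h
  have hD := h.dade L cf.hL cf.hκL
  obtain ⟨-, -, τ₁, hiso, hag⟩ := PFTypeOne.coherent h.minSimple L cf.hL hI cf.frobL
    (suppA_eq_typeA hI ▸ hD)
  refine ⟨τ₁,
    { normal := fittingHall_normal L
      ne_bot := (h.data L cf.hL cf.hκL).typeF.2.2.1
      ne_top := (h.data L cf.hL cf.hκL).typeF.2.2.2.1
      odd := h.minSimple.1.of_dvd_nat (card_subgroup_dvd_card L)
      centK := fun n hn hn1 y hy => ?_
      dade := hD
      setA := fun y => ?_
      iso := hiso
      agree := fun α hα => by rw [suppA_eq_typeA hI]; exact hag α hα }⟩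
  · refine (coe_mem_fittingHallOf y).1 (cf.frobL n ((coe_mem_fittingHallOf n).2 hn)
      (fun e => hn1 (Subtype.ext e)) ⟨y.2, mem_centralizer_singleton_iff.2 ?_⟩)
    exact congrArg Subtype.val (mem_centralizer_singleton_iff.1 hy)
  · rw [cf.suppA_L h]
    simp [coe_mem_fittingHallOf]

theorem x_ne (cf : Config M L p x) : x ≠ 1 := fun e => by
  have h := cf.x_order
  rw [e, orderOf_one] at h
  exact cf.prime.ne_one h.symm

theorem x_mem_M (cf : Config M L p x) : x ∈ M :=
  cf.cent_le (mem_centralizer_singleton_iff.2 rfl)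

theorem x_notMem (cf : Config M L p x) : x ∉ fittingHallOf M := fun hx =>
  cf.not_dvd (cf.x_order ▸ Subgroup.orderOf_dvd_natCard _ hx)

/-- The non-identity elements of `M_F` lie in the support of `M`. -/
theorem mem_suppA_of_mem {a : G} (ha : a ∈ fittingHallOf M) (ha1 : a ≠ 1) : a ∈ suppA M :=
  ⟨BGUniq.fittingHallOf_le M ha, ha1, a, ha, ha1, rfl⟩

/-- The products of `x` with the elements of `C_K(x)`. -/
theorem mul_mem_suppA (cf : Config M L p x) {c : G} (hc : c ∈ fittingHallOf M)
    (hxc : x * c = c * x) : x * c ∈ suppA M := by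
  refine ⟨M.mul_mem cf.x_mem_M (BGUniq.fittingHallOf_le M hc), fun e => cf.x_notMem ?_, ?_⟩
  · rw [mul_eq_one_iff_eq_inv.1 e]; exact inv_mem hc
  · by_cases hc1 : c = 1
    · obtain ⟨y, hy, hy', hxy⟩ := cf.fixed
      exact ⟨y, hy, fun e => hy' (e ▸ one_mem _), by rw [hc1, mul_one]; exact hxy⟩
    · exact ⟨c, hc, hc1, by rw [hxc, mul_assoc]; congr 1⟩

theorem x_mem_suppA (cf : Config M L p x) : x ∈ suppA M := by
  have h := cf.mul_mem_suppA (one_mem _) (by rw [mul_one, one_mul])
  rwa [mul_one] at h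

theorem cent_mul_le (cf : Config M L p x) {c : G} (hc : c ∈ fittingHallOf M)
    (hxc : x * c = c * x) : centralizer ({x * c} : Set G) ≤ M := by
  refine le_trans (fun g hg => ?_) cf.cent_le
  rw [mem_centralizer_singleton_iff] at hg ⊢
  -- `x` is a power of `x * c`
  set n := orderOf c with hn
  have h1 : (x * c) ^ n = x ^ n := by
    rw [(show Commute x c from hxc).mul_pow, hn, pow_orderOf_eq_one, mul_one]
  obtain ⟨m, hm⟩ := exists_pow_eq_self_of_coprime (x := x) (n := n) (by
    rw [cf.x_order]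
    exact ((cf.prime.coprime_iff_not_dvd.2 cf.not_dvd).coprime_dvd_right
      (Subgroup.orderOf_dvd_natCard _ hc)).symm)
  rw [← hm, ← h1]
  exact (((show Commute g (x * c) from hg).pow_right n).pow_right m).eq

theorem supportR_mul (cf : Config M L p x) {c : G} (hc : c ∈ fittingHallOf M)
    (hxc : x * c = c * x) : supportR M (x * c) = ⊥ := by
  rw [supportR, dif_neg]
  exact fun hh => hh.1 (cf.cent_mul_le hc hxc)

theorem supportR_L (cf : Config M L p x) :
    supportR L x = fittingHallOf M ⊓ centralizer ({x} : Set G) := by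
  have hex : ∃! N : Subgroup G, IsCoatom N ∧ centralizer ({x} : Set G) ≤ N :=
    ⟨M, ⟨cf.hM, cf.cent_le⟩, fun N hN => cf.uniq N hN.1 hN.2⟩
  rw [supportR, dif_pos ⟨cf.cent_not, hex⟩]
  have hs := Classical.choose_spec hex.exists
  rw [cf.uniq _ hs.1 hs.2]

/-- The supports over `K#` and over `L` are disjoint. -/
theorem supp_disjoint (cf : Config M L p x) (h : Inputs G) :
    Disjoint (Coherence.dadeSupp ((fittingHallOf M : Set G) \ {1}) (supportR M))
      (Coherence.dadeSupp (suppA L) (supportR L)) := by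
  have hd := (S1379.result h.minSimple).1 M L cf.hM cf.hL cf.not_conj
  rw [(h.data M cf.hM cf.hκM).core, (h.data L cf.hL cf.hκL).core] at hd
  have conv : ∀ (N : Subgroup G) (A : Set G),
      Coherence.dadeSupp A (supportR N) ⊆ tildeOf N A := by
    rintro N A g ⟨a, ha, u, hu, y, hy⟩
    exact ⟨a, ha, u, hu, y⁻¹, by rw [inv_inv, ← hy]; group⟩
  rw [Set.disjoint_iff_inter_eq_empty, ← Set.subset_empty_iff, ← hd, cf.suppA_L h]
  exact Set.inter_subset_inter (conv _ _) (conv _ _)

theorem notMem_supp_L (cf : Config M L p x) (h : Inputs G) {a : G} (ha : a ∈ fittingHallOf M)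
    (ha1 : a ≠ 1) : a ∉ Coherence.dadeSupp (suppA L) (supportR L) := fun hL =>
  Set.disjoint_left.1 (cf.supp_disjoint h) ⟨a, ⟨ha, ha1⟩, 1, one_mem _, 1, by group⟩ hL

/-- Characters not trivial on `M_F` vanish outside the support. -/
theorem apply_eq_zero [Fintype M] {i : IrrCharacter M} (hi : i ∉ trivSet (fittingHall M)) {y : M}
    (hy1 : y ≠ 1) (hy : (y : G) ∉ suppA M) : (i : M → ℂ) y = 0 :=
  apply_eq_zero_of_fpf _ hi fun k hk hky => by_contra fun hk1 => hy
    ⟨y.2, fun e => hy1 (Subtype.ext e), k, (coe_mem_fittingHallOf k).2 hk,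
      fun e => hk1 (Subtype.ext e), (congrArg Subtype.val hky).symm⟩

end Config

end Cfsg.Agent.PF12
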