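import Cfsg.Agent.PF12.Ortho
import Cfsg.Agent.Lib.CharCore.Virtual

/-!
# Peterfalvi (12.7): the values of `τ₁ ζ` at `x` and of its adjoint on `M`
-/

set_option autoImplicit false
set_option linter.style.haveILetI false
set_option linter.unusedSectionVars false

namespace Cfsg.Agent.PF12

open Cfsg Subgroup
open scoped Classical ComplexConjugate

variable {G : Type*} [Group G]

/-- The derived subgroup of `M_F`, inside `M_F`. -/
abbrev derK (M : Subgroup G) : Subgroup (fittingHall M) := commutator (fittingHall M)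

theorem mem_derK {M : Subgroup G} (k : fittingHall M) :
    ((k : M) : G) ∈ ⁅fittingHallOf M, fittingHallOf M⁆ ↔ k ∈ derK M := by
  have h : (derK M).map ((M.subtype).comp (fittingHall M).subtype) =
      ⁅fittingHallOf M, fittingHallOf M⁆ := by
    rw [derK, commutator_def, map_commutator, ← MonoidHom.range_eq_map, MonoidHom.range_comp,
      range_subtype]
    rfl
  rw [← h]
  exact mem_map_iff_mem (f := (M.subtype).comp (fittingHall M).subtype)
    (M.subtype_injective.comp (fittingHall M).subtype_injective)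

variable [Fintype G]
variable {M L : Subgroup G} [Fintype M] [Fintype L] {p : ℕ} {x : G}

/-- The adjoint of the Dade map of `M` at `τ₁ ζ`. -/
noncomputable def fFun (M : Subgroup G) [Fintype M] (ψ : G → ℂ) : M → ℂ :=
  PF7.rho (suppA M) M (supportR M) ψ

namespace Setting

variable {τ₁ : (L → ℂ) → (G → ℂ)} {ζ : L → ℂ} (st : Setting M L p x τ₁ ζ)

include st

theorem f_class : IsClassFunction M (fFun M (τ₁ ζ)) :=
  PF7.isClassFunction_rho st.dadeM st.psi_class

theorem f_const {y k : M} (hy : y ∉ fittingHall M) (hk : k ∈ fittingHall M) :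
    fFun M (τ₁ ζ) (y * k) = fFun M (τ₁ ζ) y := by
  refine st.fix.apply_mul_eq st.f_class (fun i j hi hj hd => ?_) hy hk
  obtain ⟨R, hR⟩ := st.exists_system
  have hm := st.sub_mem hi hj hd
  rw [← sub_eq_zero, ← Coherence.inner_sub_right, fFun,
    ← PF7.inner_dade_right st.dadeM (st.calI_iso.2.2 _ hm).1 (st.calI_iso.2.2 _ hm).2 st.psi_class]
  exact st.inner_tau_sub hR hi hj hd

theorem psi_mul {c : G} (hc : c ∈ fittingHallOf M) (hxc : x * c = c * x) :
    τ₁ ζ (x * c) = τ₁ ζ x := by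
  have key : ∀ {b : G}, b ∈ fittingHallOf M → x * b = b * x →
      ∀ hb : x * b ∈ M, fFun M (τ₁ ζ) ⟨x * b, hb⟩ = τ₁ ζ (x * b) := by
    intro b hb hxb hbM
    rw [fFun, PF7.rho_of_mem (a := (⟨x * b, hbM⟩ : M)) (st.config.mul_mem_suppA hb hxb),
      show supportR M ((⟨x * b, hbM⟩ : M) : G) = ⊥ from st.config.supportR_mul hb hxb]
    simp
  have hxM := st.config.x_mem_M
  have hcM := BGUniq.fittingHallOf_le M hc
  have h := st.f_const (y := (⟨x, hxM⟩ : M)) (k := ⟨c, hcM⟩)
    (fun hh => st.config.x_notMem ((coe_mem_fittingHallOf _).2 hh))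
    ((coe_mem_fittingHallOf (⟨c, hcM⟩ : M)).1 hc)
  have h1 := key (one_mem _) (by simp) (M.mul_mem hxM M.one_mem)
  simp only [mul_one] at h1
  rw [← key hc hxc (M.mul_mem hxM hcM), ← h1]
  exact h

theorem psi_x {a : ℤ} (ha : ∀ y : L, y ∈ fittingHall L → y ≠ 1 →
      PF7.rho (suppA L) L (supportR L) (τ₁ ζ) y = ζ y + a) (hxL : x ∈ L) :
    τ₁ ζ x = ζ ⟨x, hxL⟩ + a := by
  rw [← ha ⟨x, hxL⟩ ((coe_mem_fittingHallOf (⟨x, hxL⟩ : L)).1 st.config.x_mem)
    (fun e => st.config.x_ne (congrArg Subtype.val e))]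
  have hA : x ∈ suppA L := by
    rw [st.config.suppA_L st.inputs]; exact ⟨st.config.x_mem, st.config.x_ne⟩
  rw [PF7.rho_eq_sum _ (a := (⟨x, hxL⟩ : L)) hA,
    Finset.sum_congr rfl (g := fun _ => τ₁ ζ x) fun u _ => ?_, Finset.sum_const, Finset.card_univ,
    ← Nat.card_eq_fintype_card, nsmul_eq_mul,
    inv_mul_cancel_left₀ (Nat.cast_ne_zero.2 Nat.card_pos.ne')]
  obtain ⟨hu1, hu2⟩ : (u : G) ∈ fittingHallOf M ⊓ centralizer ({x} : Set G) :=
    st.config.supportR_L ▸ u.2
  exact st.psi_mul hu1 (mem_centralizer_singleton_iff.1 hu2).symm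

/-- The difference of the pairings with the induced linear characters. -/
theorem exists_D : ∃ D : ℤ, ∀ θ : IrrCharacter (fittingHall M), θ ∈ trivSet (derK M) →
    (θ : fittingHall M → ℂ) ≠ (fun _ => 1) →
    classInner (fFun M (τ₁ ζ)) (indFun (fittingHall M) (fun _ : fittingHall M => (1 : ℂ))) -
      classInner (fFun M (τ₁ ζ)) (indFun (fittingHall M) (θ : fittingHall M → ℂ)) = (D : ℂ) := by
  set K := fittingHall M with hK
  have hlin : ∀ θ ∈ trivSet (derK M), (θ : fittingHall M → ℂ) 1 = 1 := fun θ hθ =>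
    trivSet_degree (derK M) (fun a b => by
      rw [derK, commutator_def]
      exact commutator_mem_commutator (mem_top a) (mem_top b)) hθ
  by_cases hex : ∃ θ : IrrCharacter (fittingHall M), θ ∈ trivSet (derK M) ∧
      (θ : fittingHall M → ℂ) ≠ (fun _ => 1)
  swap
  · exact ⟨0, fun θ h1 h2 => absurd ⟨θ, h1, h2⟩ hex⟩
  obtain ⟨θ₀, h01, h02⟩ := hex
  obtain ⟨R, hR⟩ := st.exists_system
  have supp : ∀ {α : M → ℂ}, IsGeneralizedCharacter M α → α 1 = 0 → (∀ y ∉ K, α y = 0) →
      IsClassFunction M α ∧ (∀ y : M, (y : G) ∉ suppA M → α y = 0) ∧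
        classInner (fFun M (τ₁ ζ)) α =
          classInner (τ₁ ζ) (dadeIsometry (suppA M) M (supportR M) α) := by
    intro α hg h1 hoff
    have hs : ∀ y : M, (y : G) ∉ suppA M → α y = 0 := by
      intro y hy
      by_cases hyK : y ∈ K
      · rw [show y = 1 from by_contra fun hy1 => hy (Config.mem_suppA_of_mem
          ((coe_mem_fittingHallOf y).2 hyK) fun e => hy1 (Subtype.ext e)), h1]
      · exact hoff y hyK
    have hc := PFTypeOne.gen_isClassFunction hg
    exact ⟨hc, hs, by rw [fFun, ← PF7.inner_dade_right st.dadeM hc hs st.psi_class]⟩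
  have hgen : IsGeneralizedCharacter M
      (indFun K (fun _ : K => (1 : ℂ)) - indFun K (θ₀ : K → ℂ)) :=
    Coherence.gen_sub (Coherence.gen_of_char (CharInd.isCharacter_indFun K CharCore.isCharacter_one))
      (Coherence.gen_of_char (CharInd.isCharacter_indFun K (Coherence.irr_isCharacter θ₀.2)))
  obtain ⟨hc, hs, he⟩ := supp hgen
    (by rw [Pi.sub_apply, CharInd.indFun_apply_one, CharInd.indFun_apply_one, hlin θ₀ h01, sub_self])
    (fun y hy => by
      rw [Pi.sub_apply, OddChar.indFun_eq_zero_of_notMem K _ hy,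
        OddChar.indFun_eq_zero_of_notMem K _ hy, sub_self])
  obtain ⟨D, hD⟩ := Coherence.inner_gen_int (st.kernel.gen st.mem)
    (S1501.result _ _ _ st.dadeM _ hgen hs)
  refine ⟨D, fun θ h1 h2 => ?_⟩
  have hmem : ∀ {η : IrrCharacter K}, (η : K → ℂ) ≠ (fun _ => 1) →
      indFun K (η : K → ℂ) ∈ inducedIrrAbove K (⊥ : Subgroup M) := fun {η} hη =>
    ⟨η, η.2, hη, fun a ha => by
      rw [show a = 1 from Subtype.ext ha], rfl⟩
  have hdeg : indFun K (θ₀ : K → ℂ) 1 = indFun K (θ : K → ℂ) 1 := by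
    rw [CharInd.indFun_apply_one, CharInd.indFun_apply_one, hlin θ₀ h01, hlin θ h1]
  obtain ⟨-, -, he'⟩ := supp (α := indFun K (θ₀ : K → ℂ) - indFun K (θ : K → ℂ))
    (Coherence.gen_sub
      (Coherence.gen_of_char (CharInd.isCharacter_indFun K (Coherence.irr_isCharacter θ₀.2)))
      (Coherence.gen_of_char (CharInd.isCharacter_indFun K (Coherence.irr_isCharacter θ.2))))
    (by rw [Pi.sub_apply, hdeg, sub_self])
    (fun y hy => by
      rw [Pi.sub_apply, OddChar.indFun_eq_zero_of_notMem K _ hy,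
        OddChar.indFun_eq_zero_of_notMem K _ hy, sub_self])
  rw [st.inner_tau_ind hR (hmem h02) (hmem h2) hdeg, Coherence.inner_sub_right] at he'
  rw [← hD, ← he, Coherence.inner_sub_right, sub_right_inj]
  linear_combination -he'

end Setting

end Cfsg.Agent.PF12
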