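import Cfsg.Agent.PF12.Basic
import Cfsg.Agent.BGSigma.SupportR
import Cfsg.Agent.S1350
import Cfsg.Agent.S1375
import Cfsg.Agent.S1425
import Cfsg.Agent.S1432
import Cfsg.Agent.Lib.Coprime.Action

/-!
# The partner `L` of a plane outside `M_F`
-/

set_option autoImplicit false
set_option linter.style.haveILetI false
set_option linter.unusedSectionVars false

namespace Cfsg.Agent.PF12

open Cfsg Subgroup

variable {G : Type*} [Group G] [Finite G]

theorem le_normalizer_commutator {M K : Subgroup G} (h : M ≤ normalizer (K : Set G)) :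
    M ≤ normalizer ((⁅K, K⁆ : Subgroup G) : Set G) := by
  refine Coprime.le_normalizer_of_conj_mem fun m hm x hx => ?_
  have e : K.map (MulAut.conj m).toMonoidHom = K := (mem_normalizer_iff_map_conj_eq.1 (h hm))
  have := mem_map_of_mem (MulAut.conj m).toMonoidHom hx
  rwa [map_commutator, e] at this

theorem commutator_ne {K : Subgroup G} (hnil : Group.IsNilpotent K) (hK : K ≠ ⊥) :
    ¬ K ≤ ⁅K, K⁆ := by
  haveI : Nontrivial K := (nontrivial_iff_ne_bot K).2 hK
  haveI := hnil
  intro h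
  refine (Group.IsSolvable.commutator_lt_top_of_nontrivial K).ne (eq_top_iff.2 fun x _ => ?_)
  have := h x.2
  rw [← Subgroup.map_subtype_commutator] at this
  obtain ⟨y, hy, hyx⟩ := this
  rwa [Subtype.ext hyx] at hy

/-- A plane acting on a nilpotent group of order prime to `p` fixes an element outside the derived
subgroup. -/
theorem exists_fixed_off_derived {K E : Subgroup G} {p : ℕ} [hp : Fact p.Prime]
    (hnil : Group.IsNilpotent K) (hK : K ≠ ⊥) (hpK : ¬ p ∣ Nat.card K)
    (hEK : E ≤ normalizer (K : Set G)) (hE : IsElementaryAbelian p E) (hEc : Nat.card E = p ^ 2) :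
    ∃ a ∈ E, a ≠ 1 ∧ ∃ c ∈ K, c ∉ ⁅K, K⁆ ∧ a * c = c * a := by
  set N : Subgroup G := ⁅K, K⁆ with hN
  have hEN : E ≤ normalizer (N : Set G) := le_normalizer_commutator hEK
  have hcop : (Nat.card E).Coprime (Nat.card N) := by
    rw [hEc]
    exact Nat.Coprime.pow_left _ ((hp.out.coprime_iff_not_dvd).2 fun hd =>
      hpK (hd.trans (card_dvd_of_le (Subgroup.commutator_le_self K))))
  have hcopK : (Nat.card E).Coprime (Nat.card K) := by
    rw [hEc]; exact Nat.Coprime.pow_left _ ((hp.out.coprime_iff_not_dvd).2 hpK)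
  -- it is enough to fix a coset
  suffices h : ∃ a ∈ E, a ≠ 1 ∧ ∃ y ∈ K, y ∉ N ∧ y⁻¹ * (a * y * a⁻¹) ∈ N by
    obtain ⟨a, ha, ha1, y, hy, hyN, hfix⟩ := h
    refine ⟨a, ha, ha1, ?_⟩
    obtain ⟨n, hn, hc⟩ := Coprime.exists_fixed_in_coset (zpowers a) N
      ((zpowers_le.2 ha).trans hEN) (hcop.coprime_dvd_left (card_dvd_of_le (zpowers_le.2 ha)))
      (Or.inl inferInstance) y (by
        intro b hb
        obtain ⟨i, rfl⟩ := mem_zpowers_iff.1 hb
        haveI : (N.subgroupOf (normalizer (N : Set G))).Normal := Subgroup.normal_in_normalizer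
        let q := QuotientGroup.mk' (N.subgroupOf (normalizer (N : Set G)))
        let a' : normalizer (N : Set G) := ⟨a, hEN ha⟩
        let y' : normalizer (N : Set G) :=
          ⟨y, le_normalizer_commutator (M := K) le_normalizer hy⟩
        have h1 : q (y'⁻¹ * (a' * y' * a'⁻¹)) = 1 :=
          (QuotientGroup.eq_one_iff (N := N.subgroupOf (normalizer (N : Set G))) _).2 hfix
        have h2 : Commute (q a') (q y') := by
          rw [map_mul, map_inv, inv_mul_eq_one, map_mul, map_mul, map_inv] at h1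
          show q a' * q y' = q y' * q a'
          conv_rhs => rw [h1]
          group
        have h3 : q (y'⁻¹ * (a' ^ i * y' * (a' ^ i)⁻¹)) = 1 := by
          rw [map_mul, map_inv, map_mul, map_mul, map_inv, map_zpow, (h2.zpow_left i).eq]
          group
        have h4 := (QuotientGroup.eq_one_iff (N := N.subgroupOf (normalizer (N : Set G))) _).1 h3
        simpa [mem_subgroupOf, y', a'] using h4)
    refine ⟨y * n, K.mul_mem hy (Subgroup.commutator_le_self K hn), fun h => hyN ?_, ?_⟩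
    · have := N.mul_mem h (N.inv_mem hn)
      rwa [mul_inv_cancel_right] at this
    · exact mem_centralizer_iff.1 hc a (mem_zpowers a)
  by_contra hall
  push Not at hall
  -- `E` would act fixed point freely on `K / K'`
  set X : Subgroup G := normalizer (K : Set G) with hX
  have hXN : X ≤ normalizer (N : Set G) := le_normalizer_commutator le_rfl
  have hNX : N ≤ X := (Subgroup.commutator_le_self K).trans le_normalizer
  haveI : (N.subgroupOf X).Normal := (normal_subgroupOf_iff_le_normalizer hNX).2 hXN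
  let q : X →* X ⧸ N.subgroupOf X := QuotientGroup.mk' _
  let E' : Subgroup (X ⧸ N.subgroupOf X) := (E.subgroupOf X).map q
  let V : Subgroup (X ⧸ N.subgroupOf X) := (K.subgroupOf X).map q
  have hfpf : Frobenius.IsFPF E' V := by
    refine ⟨?_, ?_⟩
    · haveI : (K.subgroupOf X).Normal := Subgroup.normal_in_normalizer
      haveI : V.Normal := Subgroup.Normal.map inferInstance q (QuotientGroup.mk'_surjective _)
      rw [normalizer_eq_top]
      exact le_top
    rintro - ⟨a, ha, rfl⟩ ha1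
    rw [Subgroup.eq_bot_iff_forall]
    rintro - ⟨⟨y, hy, rfl⟩, hc⟩
    by_contra hy1
    refine hall a ha (fun e => ha1 ?_) y hy (fun h => hy1 ((QuotientGroup.eq_one_iff y).2 h)) ?_
    · rw [show a = 1 from Subtype.ext e, map_one]
    · have h1 : q (y⁻¹ * (a * y * a⁻¹)) = 1 := by
        rw [map_mul, map_inv, map_mul, map_mul, map_inv, ← mem_centralizer_singleton_iff.1 hc]
        group
      exact (QuotientGroup.eq_one_iff (N := N.subgroupOf X) _).1 h1
  have hinj : Function.Injective (fun a : E => q ⟨a, hEK a.2⟩) := by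
    intro a b hab
    have h := (QuotientGroup.eq.1 hab : _)
    have h' : (a : G)⁻¹ * b ∈ E ⊓ N := ⟨E.mul_mem (E.inv_mem a.2) b.2, h⟩
    have h'' := Coprime.inf_eq_bot_of_coprime' hcop h'.1 h'.2
    rw [inv_mul_eq_one] at h''
    exact Subtype.ext h''
  have hcard : Nat.card E' = p ^ 2 := by
    rw [← hEc]
    refine (Nat.card_congr (Equiv.ofBijective (fun a : E =>
      (⟨q ⟨a, hEK a.2⟩, ⟨⟨a, hEK a.2⟩, a.2, rfl⟩⟩ : E')) ⟨fun a b hab =>
        hinj (congrArg Subtype.val hab), ?_⟩)).symm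
    rintro ⟨-, b, hb, rfl⟩
    exact ⟨⟨b, hb⟩, rfl⟩
  haveI : IsMulCommutative E' := by
    haveI := hE.1
    exact Subgroup.map_isMulCommutative _ _
  have hV : V ≠ ⊥ := by
    intro h0
    refine commutator_ne hnil hK fun k hk => ?_
    have : q ⟨k, le_normalizer hk⟩ ∈ V := ⟨_, hk, rfl⟩
    rw [h0, mem_bot] at this
    exact (QuotientGroup.eq_one_iff (N := N.subgroupOf X) _).1 this
  haveI := hfpf.isCyclic_of_isMulCommutative hV
  have hexp : Monoid.exponent E' ∣ p := Monoid.exponent_dvd_of_forall_pow_eq_one fun e => by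
    obtain ⟨-, b, hb, rfl⟩ := e
    refine Subtype.ext ?_
    show q b ^ p = 1
    rw [← map_pow, show b ^ p = 1 from Subtype.ext (hE.2 b hb), map_one]
  rw [IsCyclic.exponent_eq_card, hcard] at hexp
  have := Nat.le_of_dvd hp.out.pos hexp
  have := hp.out.two_le
  nlinarith

theorem normalizer_fittingHallOf_eq (hG : IsMinSimpleOddOrder G) {M : Subgroup G}
    (hM : IsCoatom M) (h : OneData M) :
    normalizer (fittingHallOf M : Set G) = M := by
  obtain ⟨U, U₀, U₁, s⟩ := exists_shape h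
  refine (hM.le_iff.1 s.normal).resolve_left fun e => ?_
  haveI : IsSimpleGroup G := hG.2.1
  haveI : (fittingHallOf M).Normal := normalizer_eq_top_iff.1 e
  rcases IsSimpleGroup.eq_bot_or_eq_top_of_normal (fittingHallOf M) inferInstance with h | h
  · exact s.ne h
  · exact hM.1 (top_le_iff.1 (h ▸ s.le))

/-- A plane `E` of `M` outside `K = M_F`, an element `x` of `E` with fixed points in `K` outside
`K'`, and a maximal subgroup `L` with `E ≤ L_F` and `C(x) ⊄ L`. -/
structure Witness (M L : Subgroup G) (p : ℕ) (E : Subgroup G) (x c : G) : Prop where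
  hM : IsCoatom M
  hκM : kappa M = ∅
  hL : IsCoatom L
  hκL : kappa L = ∅
  prime : p.Prime
  not_dvd : ¬ p ∣ Nat.card (fittingHallOf M)
  E_le : E ≤ M
  E_elem : IsElementaryAbelian p E
  E_card : Nat.card E = p ^ 2
  E_le_L : E ≤ fittingHallOf L
  x_mem : x ∈ E
  x_ne : x ≠ 1
  c_mem : c ∈ fittingHallOf M
  c_not : c ∉ ⁅fittingHallOf M, fittingHallOf M⁆
  comm : x * c = c * x
  cent_le : centralizer ({x} : Set G) ≤ M
  uniq : ∀ N : Subgroup G, IsCoatom N → centralizer ({x} : Set G) ≤ N → N = M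
  cent_not : ¬ centralizer ({x} : Set G) ≤ L
  not_conj : ∀ g : G, L ≠ M.map (MulAut.conj g).toMonoidHom
  not_TI : ¬ IsTISubset (fittingHallOf L : Set G)

theorem exists_witness (h : Inputs G) {M : Subgroup G} (hM : IsCoatom M) (hκ : kappa M = ∅)
    {p : ℕ} [hp : Fact p.Prime] (hpK : ¬ p ∣ Nat.card (fittingHallOf M)) {E : Subgroup G}
    (hEM : E ≤ M) (hE : IsElementaryAbelian p E) (hEc : Nat.card E = p ^ 2) :
    ∃ (L : Subgroup G) (x c : G), Witness M L p E x c := by
  have hG := h.minSimple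
  obtain ⟨U, U₀, U₁, s⟩ := exists_shape (h.data M hM hκ)
  have hcore := (h.data M hM hκ).core
  obtain ⟨a, ha, ha1, c, hc, hcN, hac⟩ := exists_fixed_off_derived s.nilpotent s.ne hpK
    (hEM.trans s.normal) hE hEc
  have hc1 : c ≠ 1 := fun e => hcN (e ▸ one_mem _)
  have hord : ∀ q : ℕ, q.Prime → q ∣ orderOf a → q = p := fun q hq hd =>
    (Nat.prime_dvd_prime_iff_eq hq hp.out).1 (hd.trans (orderOf_dvd_of_pow_eq_one (hE.2 a ha)))
  have hpM : p ∣ Nat.card M := (dvd_pow_self p two_ne_zero).trans (hEc ▸ card_dvd_of_le hEM)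
  have hpσ : p ∉ sigma M := by
    intro hps
    have hh := (S1350.result hG M hM).1
    rw [hcore] at hh
    have hmul : Nat.card (fittingHallOf M) * (fittingHallOf M).relIndex M = Nat.card M := by
      rw [← relIndex_bot_left, ← relIndex_bot_left, relIndex_mul_relIndex _ _ _ bot_le s.le]
    rcases hp.out.dvd_mul.1 (hmul ▸ hpM) with h1 | h1
    · exact hpK h1
    · exact hh.2.2 p hp.out hps h1
  rcases S1432.result hG M hM c (hcore ▸ hc) hc1 a
      ⟨hEM ha, mem_centralizer_singleton_iff.2 hac⟩ ha1 (fun q hq hd => hord q hq hd ▸ hpσ) with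
    ⟨hk, -⟩ | ⟨-, ⟨L₀, hL₀, hσ₀⟩, hCM, huniq⟩
  · obtain ⟨q, hq, hd⟩ := Nat.exists_prime_and_dvd (orderOf_eq_one_iff.not.2 ha1)
    exact absurd (hk q hq hd) (hκ ▸ Set.notMem_empty q)
  obtain ⟨q, hq, hd⟩ := Nat.exists_prime_and_dvd (orderOf_eq_one_iff.not.2 ha1)
  have hpL₀ : p ∈ sigma L₀ := hord q hq hd ▸ hσ₀ q hq hd
  obtain ⟨g, hg⟩ := S1425.result hG L₀ hL₀ E
    (fun e => by rw [e, card_bot] at hEc; exact (Nat.one_lt_pow two_ne_zero hp.out.one_lt).ne hEc)
    (fun r hr hd => (Nat.prime_dvd_prime_iff_eq hr hp.out).1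
      (hr.dvd_of_dvd_pow (hEc ▸ hd)) ▸ hpL₀)
  set L := L₀.map (MulAut.conj g⁻¹).toMonoidHom with hLdef
  have hL : IsCoatom L := BGSigma.isCoatom_map_conj hL₀ g⁻¹
  have hEL : E ≤ sigmaCore L := by
    rw [hLdef, BGSigma.sigmaCore_map_conj hG hL₀]
    intro e he
    exact ⟨_, hg (mem_map_of_mem _ he), by simp [mul_assoc]⟩
  have hne : ∀ g : G, L ≠ M.map (MulAut.conj g).toMonoidHom := by
    intro k hk
    refine hpK ?_
    have hd : p ∣ Nat.card (sigmaCore L) :=
      (dvd_pow_self p two_ne_zero).trans (hEc ▸ card_dvd_of_le hEL)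
    rwa [hk, BGSigma.sigmaCore_map_conj hG hM, card_map_of_injective (MulAut.conj k).injective,
      hcore] at hd
  have hCL : ¬ centralizer ({a} : Set G) ≤ L := fun hle =>
    hne 1 (by
      rw [huniq L hL hle]
      ext z
      simp [mem_map])
  have hκL : kappa L = ∅ := by
    by_contra hne'
    exact hCL (h.typeP_centralizer L hL (Set.nonempty_iff_ne_empty.2 hne') a (hEL ha) ha1)
  have hcoreL := (h.data L hL hκL).core
  refine ⟨L, a, c, ⟨hM, hκ, hL, hκL, hp.out, hpK, hEM, hE, hEc, hcoreL ▸ hEL, ha, ha1, hc, hcN,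
    hac, hCM, huniq, hCL, hne, fun hTI => hCL fun z hz => ?_⟩⟩
  by_contra hzL
  rw [← normalizer_fittingHallOf_eq hG hL (h.data L hL hκL)] at hzL
  refine ha1 (hTI z hzL a (hcoreL ▸ hEL ha) ?_)
  rw [mem_centralizer_singleton_iff.1 hz, mul_inv_cancel_right]
  exact hcoreL ▸ hEL ha

end Cfsg.Agent.PF12
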